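import Mathlib
import Cfsg.Agent.ClassicalGeometry.AutPSL.Root
import Cfsg.Agent.ClassicalGeometry.AutPSL.Auto
import Cfsg.Agent.OddHalf.D4.KP
import Cfsg.Agent.ClassicalGeometry.AutPSL.Main
import Cfsg.Agent.ClassicalGeometry.AutPSL.SylowU

-- merged: Cfsg.Agent.OddHalf.D4.SLTwo.Lin
section

/-!
# ODD, D4, `K = L_n(2)`: linear algebra over the field of two elements
-/

set_option autoImplicit false
set_option linter.unusedSectionVars false

namespace Cfsg.Agent.OddHalf.D4.SLTwo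

open Matrix Cfsg.Agent.ClassicalGeometry.AutPSL.Root

variable {ι F : Type*} [Fintype ι] [DecidableEq ι] [Field F]

/-- The field has two elements. -/
def Two (F : Type*) [Field F] : Prop := ∀ c : F, c = 0 ∨ c = 1

theorem Two.one_add_one (h : Two F) : (1 : F) + 1 = 0 := by
  rcases h (1 + 1) with h1 | h1
  · exact h1
  · exfalso
    have h2 : (1 : F) = 0 := by
      have h3 : (1 : F) + 1 = 1 + 0 := by rw [h1, add_zero]
      exact add_left_cancel h3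
    exact one_ne_zero h2

theorem Two.add_self (h : Two F) (c : F) : c + c = 0 := by
  have : c + c = c * (1 + 1) := by ring
  rw [this, h.one_add_one, mul_zero]

theorem Two.vadd_self (h : Two F) (v : ι → F) : v + v = 0 := by
  ext i; exact h.add_self _

theorem Two.madd_self (h : Two F) (A : Matrix ι ι F) : A + A = 0 := by
  ext i j; exact h.add_self _

theorem Two.veq (h : Two F) {u v : ι → F} (huv : u + v = 0) : u = v := by
  have h1 : u + v + v = 0 + v := by rw [huv]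
  rwa [add_assoc, h.vadd_self, add_zero, zero_add] at h1

theorem Two.meq (h : Two F) {A B : Matrix ι ι F} (huv : A + B = 0) : A = B := by
  have h1 : A + B + B = 0 + B := by rw [huv]
  rwa [add_assoc, h.madd_self, add_zero, zero_add] at h1

theorem Two.ne_zero (h : Two F) {c : F} (hc : c ≠ 0) : c = 1 := (h c).resolve_left hc

/-- An invertible matrix over the field of two elements as an element of `SL`. -/
theorem Two.exists_sl (h : Two F) {A B : Matrix ι ι F} (hAB : A * B = 1) :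
    ∃ g : Matrix.SpecialLinearGroup ι F, (g : Matrix ι ι F) = A := by
  have h1 : A.det * B.det = 1 := by rw [← det_mul, hAB, det_one]
  have h2 : A.det ≠ 0 := left_ne_zero_of_mul_eq_one h1
  exact ⟨⟨A, h.ne_zero h2⟩, rfl⟩

theorem mul_inv_val (x : Matrix.SpecialLinearGroup ι F) : (x : Matrix ι ι F) * ((x⁻¹ : Matrix.SpecialLinearGroup ι F) : Matrix ι ι F) = 1 := by
  rw [← Matrix.SpecialLinearGroup.coe_mul, mul_inv_cancel, Matrix.SpecialLinearGroup.coe_one]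

theorem inv_mul_val (x : Matrix.SpecialLinearGroup ι F) : ((x⁻¹ : Matrix.SpecialLinearGroup ι F) : Matrix ι ι F) * (x : Matrix ι ι F) = 1 := by
  rw [← Matrix.SpecialLinearGroup.coe_mul, inv_mul_cancel, Matrix.SpecialLinearGroup.coe_one]

theorem conj_tr_aux (x : Matrix.SpecialLinearGroup ι F) {v f : ι → F} (h : f ⬝ᵥ v = 0) :
    (f ᵥ* ((x⁻¹ : Matrix.SpecialLinearGroup ι F) : Matrix ι ι F)) ⬝ᵥ ((x : Matrix ι ι F) *ᵥ v) = 0 := by
  rw [← dotProduct_mulVec, mulVec_mulVec, inv_mul_val, one_mulVec, h]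

/-- Conjugates of transvections. -/
theorem conj_tr (x : Matrix.SpecialLinearGroup ι F) (v f : ι → F) (h : f ⬝ᵥ v = 0) :
    x * tr v f h * x⁻¹ = tr ((x : Matrix ι ι F) *ᵥ v) (f ᵥ* ((x⁻¹ : Matrix.SpecialLinearGroup ι F) : Matrix ι ι F))
      (conj_tr_aux x h) := by
  apply Subtype.ext
  rw [Matrix.SpecialLinearGroup.coe_mul, Matrix.SpecialLinearGroup.coe_mul, coe_tr, coe_tr, mul_add, mul_one, add_mul, mul_inv_val,
    mul_vecMulVec, vecMulVec_mul]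

theorem tr_congr {v v' f f' : ι → F} (h : f ⬝ᵥ v = 0) (h' : f' ⬝ᵥ v' = 0) (hv : v = v') (hf : f = f') :
    tr v f h = tr v' f' h' := by
  subst hv; subst hf; rfl

theorem tr_zero_right (v : ι → F) (h : (0 : ι → F) ⬝ᵥ v = 0) : tr v 0 h = 1 := by
  apply Subtype.ext
  rw [coe_tr]; simp

theorem Two.tr_inv (hF : Two F) (v f : ι → F) (h : f ⬝ᵥ v = 0) : (tr v f h)⁻¹ = tr v f h := by
  rw [inv_eq_iff_mul_eq_one, tr_mul_same_center]
  rw [tr_congr _ (by simp) rfl (hF.vadd_self f)]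
  exact tr_zero_right v _

/-! ### Rank one and rank two matrices -/

theorem vmv_mulVec (a φ z : ι → F) : vecMulVec a φ *ᵥ z = (φ ⬝ᵥ z) • a := by
  rw [vecMulVec_mulVec, op_smul_eq_smul]

theorem vecMul_vmv (f a φ : ι → F) : f ᵥ* vecMulVec a φ = (f ⬝ᵥ a) • φ := by
  rw [vecMul_vecMulVec]

theorem ext_mulVec {A B : Matrix ι ι F} (h : ∀ z, A *ᵥ z = B *ᵥ z) : A = B :=
  Matrix.mulVec_injective (funext h)

theorem ext_vecMul {A B : Matrix ι ι F} (h : ∀ f, f ᵥ* A = f ᵥ* B) : A = B := by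
  apply Matrix.ext_iff_vecMul.mpr
  exact h

/-- A matrix killed by the functionals vanishing at `a` has rank one with image spanned by `a`. -/
theorem exists_vmv {a : ι → F} {B : Matrix ι ι F} (h : ∀ f : ι → F, f ⬝ᵥ a = 0 → f ᵥ* B = 0) :
    ∃ φ, B = vecMulVec a φ := by
  by_cases ha : a = 0
  · refine ⟨0, ext_vecMul fun f => ?_⟩
    rw [vecMul_vmv, h f (by rw [ha, dotProduct_zero]), smul_zero]
  · obtain ⟨i, hi⟩ := Function.ne_iff.mp ha
    have hi' : a i ≠ 0 := hi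
    let f0 : ι → F := Pi.single i (a i)⁻¹
    have hf0 : f0 ⬝ᵥ a = 1 := by
      show Pi.single i (a i)⁻¹ ⬝ᵥ a = 1
      rw [single_dotProduct, inv_mul_cancel₀ hi']
    refine ⟨f0 ᵥ* B, ext_vecMul fun f => ?_⟩
    rw [vecMul_vmv]
    have h1 := h (f - (f ⬝ᵥ a) • f0) (by rw [sub_dotProduct, smul_dotProduct, hf0, smul_eq_mul, mul_one, sub_self])
    rw [sub_vecMul, smul_vecMul, sub_eq_zero] at h1
    exact h1

/-- The dual statement. -/
theorem exists_vmv' {α : ι → F} {B : Matrix ι ι F} (h : ∀ v : ι → F, α ⬝ᵥ v = 0 → B *ᵥ v = 0) :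
    ∃ b, B = vecMulVec b α := by
  obtain ⟨φ, hφ⟩ := exists_vmv (a := α) (B := Bᵀ) (by
    intro f hf
    rw [vecMul_transpose]
    exact h f (by rw [dotProduct_comm]; exact hf))
  refine ⟨φ, ?_⟩
  have h1 : Bᵀᵀ = (vecMulVec α φ)ᵀ := by rw [hφ]
  rw [transpose_transpose, transpose_vecMulVec] at h1
  exact h1

/-- A matrix killed by the functionals vanishing at `a` and `a'`; dual functionals are given. -/
theorem exists_vmv_two {a a' f1 f2 : ι → F} (h11 : f1 ⬝ᵥ a = 1) (h12 : f1 ⬝ᵥ a' = 0) (h21 : f2 ⬝ᵥ a = 0)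
    (h22 : f2 ⬝ᵥ a' = 1) {B : Matrix ι ι F} (h : ∀ f : ι → F, f ⬝ᵥ a = 0 → f ⬝ᵥ a' = 0 → f ᵥ* B = 0) :
    B = vecMulVec a (f1 ᵥ* B) + vecMulVec a' (f2 ᵥ* B) := by
  apply ext_vecMul
  intro f
  rw [vecMul_add, vecMul_vmv, vecMul_vmv]
  have h1 := h (f - (f ⬝ᵥ a) • f1 - (f ⬝ᵥ a') • f2) (by
    rw [sub_dotProduct, sub_dotProduct, smul_dotProduct, smul_dotProduct, h11, h21]; simp) (by
    rw [sub_dotProduct, sub_dotProduct, smul_dotProduct, smul_dotProduct, h12, h22]; simp)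
  rw [sub_vecMul, sub_vecMul, smul_vecMul, smul_vecMul, sub_sub, sub_eq_zero] at h1
  exact h1

/-! ### The setting -/

/-- `Ω` has rank at least two. -/
def R2 (Ω : Matrix ι ι F) : Prop := ∀ α : ι → F, ∃ v, α ⬝ᵥ v = 0 ∧ Ω *ᵥ v ≠ 0

/-- `Ω` has rank at least three. -/
def R3 (Ω : Matrix ι ι F) : Prop := ∀ α β : ι → F, ∃ v, α ⬝ᵥ v = 0 ∧ β ⬝ᵥ v = 0 ∧ Ω *ᵥ v ≠ 0

theorem R2.dual {Ω : Matrix ι ι F} (h : R2 Ω) (a : ι → F) : ∃ f, f ⬝ᵥ a = 0 ∧ f ᵥ* Ω ≠ 0 := by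
  by_contra hcon
  push Not at hcon
  obtain ⟨φ, hφ⟩ := exists_vmv hcon
  obtain ⟨v, hv, hv'⟩ := h φ
  apply hv'
  rw [hφ, vmv_mulVec, hv, zero_smul]

/-- `ξ` is a homomorphism from `V / ker Ω` to `im Ω`. -/
structure InE (Ω ξ : Matrix ι ι F) : Prop where
  ker : ∀ v, Ω *ᵥ v = 0 → ξ *ᵥ v = 0
  coker : ∀ f, f ᵥ* Ω = 0 → f ᵥ* ξ = 0

section InE

variable {Ω ξ : Matrix ι ι F} (h : InE Ω ξ) (hΩ : Ω * Ω = 0)

include h hΩ

theorem InE.mul_right : ξ * Ω = 0 := by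
  apply ext_mulVec
  intro z
  rw [← mulVec_mulVec, zero_mulVec]
  apply h.ker
  rw [mulVec_mulVec, hΩ, zero_mulVec]

theorem InE.mul_left : Ω * ξ = 0 := by
  apply ext_vecMul
  intro f
  rw [← vecMul_vecMul, vecMul_zero]
  apply h.coker
  rw [vecMul_vecMul, hΩ, vecMul_zero]

theorem InE.sq : ξ * ξ = 0 := by
  apply ext_mulVec
  intro z
  rw [← mulVec_mulVec, zero_mulVec]
  apply h.ker
  rw [mulVec_mulVec, h.mul_left hΩ, zero_mulVec]

end InE

/-- The subgroup `X` of `C(w)` is normalized by `C(w)` and contains no transvections. -/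
structure XH (w : Matrix.SpecialLinearGroup ι F) (X : Subgroup (Matrix.SpecialLinearGroup ι F)) : Prop where
  com : ∀ x ∈ X, x * w = w * x
  nor : ∀ g, g * w = w * g → ∀ x ∈ X, g * x * g⁻¹ ∈ X
  noTr : ∀ (v f : ι → F) (h : f ⬝ᵥ v = 0), tr v f h ∈ X → v = 0 ∨ f = 0

/-- `x` centralizes `w` and `C(w)` modulo `X`. -/
structure Act (w : Matrix.SpecialLinearGroup ι F) (X : Subgroup (Matrix.SpecialLinearGroup ι F)) (x : Matrix.SpecialLinearGroup ι F) :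
    Prop where
  com : x * w = w * x
  act : ∀ g, g * w = w * g → x * g * x⁻¹ * g⁻¹ ∈ X

theorem XH.act {w : Matrix.SpecialLinearGroup ι F} {X : Subgroup (Matrix.SpecialLinearGroup ι F)} (h : XH w X)
    {x : Matrix.SpecialLinearGroup ι F} (hx : x ∈ X) : Act w X x := by
  refine ⟨h.com x hx, fun g hg => ?_⟩
  have h1 := h.nor g hg _ (X.inv_mem hx)
  have e : x * g * x⁻¹ * g⁻¹ = x * (g * x⁻¹ * g⁻¹) := by group
  rw [e]
  exact X.mul_mem hx h1

section Setting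

variable {w : Matrix.SpecialLinearGroup ι F} {Ω : Matrix ι ι F} {X : Subgroup (Matrix.SpecialLinearGroup ι F)}

theorem comm_iff (hw : (w : Matrix ι ι F) = 1 + Ω) (g : Matrix.SpecialLinearGroup ι F) :
    g * w = w * g ↔ (g : Matrix ι ι F) * Ω = Ω * g := by
  constructor
  · intro h
    have h1 := congrArg (fun x : Matrix.SpecialLinearGroup ι F => (x : Matrix ι ι F)) h
    simp only [Matrix.SpecialLinearGroup.coe_mul, hw, mul_add, add_mul, mul_one, one_mul] at h1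
    exact add_left_cancel h1
  · intro h
    apply Subtype.ext
    rw [Matrix.SpecialLinearGroup.coe_mul, Matrix.SpecialLinearGroup.coe_mul, hw, mul_add, add_mul, mul_one, one_mul, h]

theorem tr_comm (hw : (w : Matrix ι ι F) = 1 + Ω) {v f : ι → F} (h : f ⬝ᵥ v = 0) (hv : Ω *ᵥ v = 0)
    (hf : f ᵥ* Ω = 0) : tr v f h * w = w * tr v f h := by
  rw [comm_iff hw, coe_tr, add_mul, mul_add, one_mul, mul_one, vecMulVec_mul, mul_vecMulVec, hv, hf]
  simp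

/-- **(A)** -/
theorem fix_of_fix (hF : Two F) (hw : (w : Matrix ι ι F) = 1 + Ω) (hΩ : Ω * Ω = 0) (hX : XH w X)
    {x : Matrix.SpecialLinearGroup ι F} (hx : Act w X x) {z : ι → F} (hz : Ω *ᵥ z ≠ 0)
    (hxz : (x : Matrix ι ι F) *ᵥ (Ω *ᵥ z) = Ω *ᵥ z) :
    (∀ f, f ᵥ* Ω = 0 → f ᵥ* (x : Matrix ι ι F) = f) ∧ (∀ v, Ω *ᵥ v = 0 → (x : Matrix ι ι F) *ᵥ v = v) := by
  have key : ∀ f, f ᵥ* Ω = 0 → f ᵥ* ((x⁻¹ : Matrix.SpecialLinearGroup ι F) : Matrix ι ι F) = f := by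
    intro f hf
    have hfv : f ⬝ᵥ (Ω *ᵥ z) = 0 := by rw [dotProduct_mulVec, hf, zero_dotProduct]
    have hv : Ω *ᵥ (Ω *ᵥ z) = 0 := by rw [mulVec_mulVec, hΩ, zero_mulVec]
    have h1 := hx.act _ (tr_comm hw hfv hv hf)
    rw [conj_tr, hF.tr_inv] at h1
    have h3 : f ᵥ* ((x⁻¹ : Matrix.SpecialLinearGroup ι F) : Matrix ι ι F) ⬝ᵥ Ω *ᵥ z = 0 := by
      have := conj_tr_aux x hfv
      rwa [hxz] at this
    rw [tr_congr (conj_tr_aux x hfv) h3 hxz rfl, tr_mul_same_center] at h1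
    rcases hX.noTr _ _ _ h1 with h2 | h2
    · exact absurd h2 hz
    · exact hF.veq h2
  refine ⟨fun f hf => ?_, fun v hv => ?_⟩
  · calc f ᵥ* (x : Matrix ι ι F) = f ᵥ* ((x⁻¹ : Matrix.SpecialLinearGroup ι F) : Matrix ι ι F) ᵥ* (x : Matrix ι ι F) := by
          rw [key f hf]
      _ = f := by rw [vecMul_vecMul, inv_mul_val, vecMul_one]
  · obtain ⟨i, hi⟩ := Function.ne_iff.mp hz
    let g : ι → F := Pi.single i 1
    have hg : g ᵥ* Ω ≠ 0 := by
      intro h1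
      apply hi
      have h2 : g ⬝ᵥ (Ω *ᵥ z) = 0 := by rw [dotProduct_mulVec, h1, zero_dotProduct]
      have h3 : g ⬝ᵥ (Ω *ᵥ z) = (Ω *ᵥ z) i := by
        show Pi.single i 1 ⬝ᵥ (Ω *ᵥ z) = _
        rw [single_dotProduct, one_mul]
      rw [← h3, h2]; rfl
    have hf : (g ᵥ* Ω) ᵥ* Ω = 0 := by rw [vecMul_vecMul, hΩ, vecMul_zero]
    have hfv : (g ᵥ* Ω) ⬝ᵥ v = 0 := by rw [← dotProduct_mulVec, hv, dotProduct_zero]
    have h1 := hx.act _ (tr_comm hw hfv hv hf)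
    rw [conj_tr, hF.tr_inv] at h1
    have h3 : (g ᵥ* Ω) ⬝ᵥ ((x : Matrix ι ι F) *ᵥ v) = 0 := by
      have := conj_tr_aux x hfv
      rwa [key _ hf] at this
    rw [tr_congr (conj_tr_aux x hfv) h3 rfl (key _ hf), tr_mul_same_axis] at h1
    rcases hX.noTr _ _ _ h1 with h2 | h2
    · exact hF.veq h2
    · exact absurd h2 hg

/-- An involution commuting with `w` fixes a vector of `im Ω`. -/
theorem exists_fix (hF : Two F) (hw : (w : Matrix ι ι F) = 1 + Ω) (h0 : Ω ≠ 0) {x : Matrix.SpecialLinearGroup ι F}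
    (hx : x * w = w * x) (hxx : x * x = 1) : ∃ z, Ω *ᵥ z ≠ 0 ∧ (x : Matrix ι ι F) *ᵥ (Ω *ᵥ z) = Ω *ᵥ z := by
  have h1 : (x : Matrix ι ι F) * Ω = Ω * x := (comm_iff hw x).mp hx
  have h2 : (x : Matrix ι ι F) * x = 1 := by rw [← Matrix.SpecialLinearGroup.coe_mul, hxx, Matrix.SpecialLinearGroup.coe_one]
  obtain ⟨z, hz⟩ : ∃ z, Ω *ᵥ z ≠ 0 := by
    by_contra hcon
    push Not at hcon
    exact h0 (ext_mulVec fun z => by rw [hcon z, zero_mulVec])
  by_cases h3 : (x : Matrix ι ι F) *ᵥ (Ω *ᵥ z) = Ω *ᵥ z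
  · exact ⟨z, hz, h3⟩
  · have h4 : Ω *ᵥ ((x : Matrix ι ι F) *ᵥ z) = (x : Matrix ι ι F) *ᵥ (Ω *ᵥ z) := by
      rw [mulVec_mulVec, mulVec_mulVec, h1]
    refine ⟨z + (x : Matrix ι ι F) *ᵥ z, ?_, ?_⟩
    · rw [mulVec_add, h4]
      intro h5
      exact h3 (hF.veq h5).symm
    · rw [mulVec_add, mulVec_add, h4, mulVec_mulVec _ (x : Matrix ι ι F) (x : Matrix ι ι F), h2, one_mulVec, add_comm]

/-- An element satisfying the conclusion of (A). -/
theorem inE_of_fix (hF : Two F) {x ξ : Matrix ι ι F} (hx : x = 1 + ξ)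
    (h : (∀ f, f ᵥ* Ω = 0 → f ᵥ* x = f) ∧ (∀ v, Ω *ᵥ v = 0 → x *ᵥ v = v)) : InE Ω ξ := by
  refine ⟨fun v hv => ?_, fun f hf => ?_⟩
  · have h1 := h.2 v hv
    rw [hx, add_mulVec, one_mulVec] at h1
    exact add_eq_left.mp h1
  · have h1 := h.1 f hf
    rw [hx, vecMul_add, vecMul_one] at h1
    exact add_eq_left.mp h1

end Setting

end Cfsg.Agent.OddHalf.D4.SLTwo

end

-- merged: Cfsg.Agent.OddHalf.D4.SLTwo.Core
section

/-!
# ODD, D4, `K = L_n(2)`: the analysis of an involution `x` with `[C(w), x] ≤ X`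

`main`: `w ∈ X` and `rank Ω = 2`, or `x` is one of `1`, `w`, a transvection, `w` times a transvection.
-/

set_option autoImplicit false
set_option linter.unusedSectionVars false

namespace Cfsg.Agent.OddHalf.D4.SLTwo

open Matrix Cfsg.Agent.ClassicalGeometry.AutPSL.Root

variable {ι F : Type*} [Fintype ι] [DecidableEq ι] [Field F]

theorem mul_vmv (A : Matrix ι ι F) (a φ : ι → F) : A * vecMulVec a φ = vecMulVec (A *ᵥ a) φ := mul_vecMulVec _ _ _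

theorem vmv_mul (A : Matrix ι ι F) (a φ : ι → F) : vecMulVec a φ * A = vecMulVec a (φ ᵥ* A) := vecMulVec_mul _ _ _

theorem vmv_vmv (a φ b ψ : ι → F) : vecMulVec a φ * vecMulVec b ψ = (φ ⬝ᵥ b) • vecMulVec a ψ := by
  rw [mul_vmv, vmv_mulVec, smul_vecMulVec]

/-- The elements `1 + v ⊗ fΩ + Ωv ⊗ f`. -/
theorem exists_g (hF : Two F) {Ω : Matrix ι ι F} (hΩ : Ω * Ω = 0) {v f : ι → F} (h : f ⬝ᵥ (Ω *ᵥ v) = 0) :
    ∃ g : Matrix.SpecialLinearGroup ι F,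
      (g : Matrix ι ι F) = 1 + (vecMulVec v (f ᵥ* Ω) + vecMulVec (Ω *ᵥ v) f) := by
  set N : Matrix ι ι F := vecMulVec v (f ᵥ* Ω) + vecMulVec (Ω *ᵥ v) f with hN
  have h1 : (f ᵥ* Ω) ⬝ᵥ v = 0 := by rw [← dotProduct_mulVec]; exact h
  have h2 : (f ᵥ* Ω) ⬝ᵥ (Ω *ᵥ v) = 0 := by rw [dotProduct_mulVec, vecMul_vecMul, hΩ]; simp
  have hNN : N * N = (f ⬝ᵥ v) • vecMulVec (Ω *ᵥ v) (f ᵥ* Ω) := by
    rw [hN, mul_add, add_mul, add_mul, vmv_vmv, vmv_vmv, vmv_vmv, vmv_vmv, h1, h2, h]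
    simp
  have hNNN : N * N * N = 0 := by
    rw [hNN, hN, smul_mul_assoc, mul_add, vmv_vmv, vmv_vmv, h1, h2]
    simp
  apply hF.exists_sl (B := 1 + (N + N * N))
  have e : (1 + N) * (1 + (N + N * N)) = 1 + (N + N) + (N * N + N * N) + N * N * N := by
    noncomm_ring
  rw [e, hF.madd_self, hF.madd_self, hNNN, add_zero, add_zero, add_zero]

section Setting

variable {w : Matrix.SpecialLinearGroup ι F} {Ω ξ : Matrix ι ι F} {X : Subgroup (Matrix.SpecialLinearGroup ι F)}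

/-- **(B)** the commutator of `x = 1 + ξ` with the elements of `exists_g`. -/
theorem exists_comm (hF : Two F) (hw : (w : Matrix ι ι F) = 1 + Ω) (hΩ : Ω * Ω = 0)
    {x : Matrix.SpecialLinearGroup ι F} (hx : Act w X x) (hxξ : (x : Matrix ι ι F) = 1 + ξ) (hE : InE Ω ξ)
    {v f : ι → F} (h : f ⬝ᵥ (Ω *ᵥ v) = 0) :
    ∃ c ∈ X, (c : Matrix ι ι F) = 1 + (vecMulVec (Ω *ᵥ v) (f ᵥ* ξ + (f ⬝ᵥ (ξ *ᵥ v)) • (f ᵥ* Ω)) +
      vecMulVec (ξ *ᵥ v) (f ᵥ* Ω)) := by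
  obtain ⟨g, hg⟩ := exists_g hF hΩ h
  have hgw : g * w = w * g := by
    rw [comm_iff hw, hg, add_mul, mul_add, one_mul, mul_one, add_mul, mul_add, vmv_mul, vmv_mul, mul_vmv, mul_vmv,
      vecMul_vecMul, hΩ, mulVec_mulVec, hΩ]
    simp
  have h1 := X.inv_mem (hx.act g hgw)
  refine ⟨_, h1, ?_⟩
  set η : Matrix ι ι F := vecMulVec (Ω *ᵥ v) (f ᵥ* ξ + (f ⬝ᵥ (ξ *ᵥ v)) • (f ᵥ* Ω)) +
      vecMulVec (ξ *ᵥ v) (f ᵥ* Ω) with hη
  set c := (x * g * x⁻¹ * g⁻¹)⁻¹ with hc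
  have h2 : c * (x * g) = g * x := by rw [hc]; group
  have h3 : (c : Matrix ι ι F) * ((x : Matrix ι ι F) * g) = g * x := by
    have := congrArg (fun y : Matrix.SpecialLinearGroup ι F => (y : Matrix ι ι F)) h2
    simpa only [Matrix.SpecialLinearGroup.coe_mul] using this
  have hξξ := hE.sq hΩ
  have hξΩ := hE.mul_right hΩ
  have hΩξ := hE.mul_left hΩ
  set b := f ⬝ᵥ (ξ *ᵥ v) with hb
  have d1 : (f ᵥ* ξ) ⬝ᵥ v = b := by rw [← dotProduct_mulVec]
  have d2 : (f ᵥ* Ω) ⬝ᵥ v = 0 := by rw [← dotProduct_mulVec]; exact h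
  have d3 : (f ᵥ* ξ) ⬝ᵥ (Ω *ᵥ v) = 0 := by rw [dotProduct_mulVec, vecMul_vecMul, hξΩ]; simp
  have d4 : (f ᵥ* Ω) ⬝ᵥ (Ω *ᵥ v) = 0 := by rw [dotProduct_mulVec, vecMul_vecMul, hΩ]; simp
  -- the identity
  have h4 : (1 + η) * ((x : Matrix ι ι F) * g) = g * x := by
    have a1 : η * ξ = 0 := by
      rw [hη, add_mul, vmv_mul, vmv_mul, add_vecMul, vecMul_vecMul, hξξ, smul_vecMul, vecMul_vecMul, hΩξ]
      simp
    have a2 : η * (vecMulVec v (f ᵥ* Ω) + vecMulVec (Ω *ᵥ v) f) = b • vecMulVec (Ω *ᵥ v) (f ᵥ* Ω) := by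
      rw [hη, add_mul, mul_add, mul_add, vmv_vmv, vmv_vmv, vmv_vmv, vmv_vmv, add_dotProduct, add_dotProduct,
        smul_dotProduct, smul_dotProduct, d1, d2, d3, d4]
      simp
    have a3 : ξ * (vecMulVec v (f ᵥ* Ω) + vecMulVec (Ω *ᵥ v) f) = vecMulVec (ξ *ᵥ v) (f ᵥ* Ω) := by
      rw [mul_add, mul_vmv, mul_vmv, mulVec_mulVec, hξΩ]
      simp
    have a4 : (vecMulVec v (f ᵥ* Ω) + vecMulVec (Ω *ᵥ v) f) * ξ = vecMulVec (Ω *ᵥ v) (f ᵥ* ξ) := by
      rw [add_mul, vmv_mul, vmv_mul, vecMul_vecMul, hΩξ]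
      simp
    set N : Matrix ι ι F := vecMulVec v (f ᵥ* Ω) + vecMulVec (Ω *ᵥ v) f with hN
    rw [hxξ, hg]
    have e1 : (1 + η) * ((1 + ξ) * (1 + N)) = 1 + N + ξ + (ξ * N) + η + (η * ξ) + η * N + (η * ξ) * N := by
      noncomm_ring
    have e2 : (1 + N) * (1 + ξ) = 1 + N + ξ + N * ξ := by noncomm_ring
    rw [e1, e2, a1, a2, a3, a4, zero_mul, add_zero, add_zero]
    have e3 : η = vecMulVec (Ω *ᵥ v) (f ᵥ* ξ) + b • vecMulVec (Ω *ᵥ v) (f ᵥ* Ω) + vecMulVec (ξ *ᵥ v) (f ᵥ* Ω) := by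
      rw [hη, vecMulVec_add, vecMulVec_smul]
    rw [e3]
    have e4 := hF.madd_self (vecMulVec (ξ *ᵥ v) (f ᵥ* Ω))
    have e5 := hF.madd_self (b • vecMulVec (Ω *ᵥ v) (f ᵥ* Ω))
    calc 1 + N + ξ + vecMulVec (ξ *ᵥ v) (f ᵥ* Ω) + (vecMulVec (Ω *ᵥ v) (f ᵥ* ξ) + b • vecMulVec (Ω *ᵥ v) (f ᵥ* Ω) +
          vecMulVec (ξ *ᵥ v) (f ᵥ* Ω)) + b • vecMulVec (Ω *ᵥ v) (f ᵥ* Ω)
        = 1 + N + ξ + vecMulVec (Ω *ᵥ v) (f ᵥ* ξ) + (vecMulVec (ξ *ᵥ v) (f ᵥ* Ω) + vecMulVec (ξ *ᵥ v) (f ᵥ* Ω)) +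
          (b • vecMulVec (Ω *ᵥ v) (f ᵥ* Ω) + b • vecMulVec (Ω *ᵥ v) (f ᵥ* Ω)) := by abel
      _ = 1 + N + ξ + vecMulVec (Ω *ᵥ v) (f ᵥ* ξ) := by rw [e4, e5, add_zero, add_zero]
  have h5 : (c : Matrix ι ι F) * ((x : Matrix ι ι F) * g) = (1 + η) * ((x : Matrix ι ι F) * g) := by rw [h3, h4]
  have h6 : ((x : Matrix ι ι F) * g) * (((x * g)⁻¹ : Matrix.SpecialLinearGroup ι F) : Matrix ι ι F) = 1 := by
    rw [← Matrix.SpecialLinearGroup.coe_mul]; exact mul_inv_val _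
  calc (c : Matrix ι ι F) = (c : Matrix ι ι F) * (((x : Matrix ι ι F) * g) *
        (((x * g)⁻¹ : Matrix.SpecialLinearGroup ι F) : Matrix ι ι F)) := by rw [h6, mul_one]
    _ = ((c : Matrix ι ι F) * ((x : Matrix ι ι F) * g)) *
        (((x * g)⁻¹ : Matrix.SpecialLinearGroup ι F) : Matrix ι ι F) := (mul_assoc _ _ _).symm
    _ = 1 + η := by rw [h5, mul_assoc (1 + η), h6, mul_one]

/-- An element of `X` of the form `1 + a ⊗ φ`. -/
theorem XH.noTr' (hX : XH w X) (hw1 : (w : Matrix ι ι F) = 1 + Ω) {c : Matrix.SpecialLinearGroup ι F} (hc : c ∈ X) {a φ : ι → F}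
    (hca : (c : Matrix ι ι F) = 1 + vecMulVec a φ) (h : φ ⬝ᵥ a = 0) : a = 0 ∨ φ = 0 := by
  apply hX.noTr a φ h
  have : tr a φ h = c := Subtype.ext (by rw [coe_tr, hca])
  rw [this]; exact hc

/-- **(B1)** -/
theorem b_one (hF : Two F) (hw : (w : Matrix ι ι F) = 1 + Ω) (hΩ : Ω * Ω = 0) (hX : XH w X)
    {x : Matrix.SpecialLinearGroup ι F} (hx : Act w X x) (hxξ : (x : Matrix ι ι F) = 1 + ξ) (hE : InE Ω ξ)
    {v : ι → F} (hv : Ω *ᵥ v ≠ 0) (h : ξ *ᵥ v = Ω *ᵥ v) : ∃ φ, ξ = Ω + vecMulVec (Ω *ᵥ v) φ := by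
  obtain ⟨φ, hφ⟩ := exists_vmv (a := Ω *ᵥ v) (B := Ω + ξ) (by
    intro f hf
    obtain ⟨c, hc, hc1⟩ := exists_comm hF hw hΩ hx hxξ hE hf
    rw [h, hf, zero_smul, add_zero, ← vecMulVec_add] at hc1
    have d3 : (f ᵥ* ξ + f ᵥ* Ω) ⬝ᵥ (Ω *ᵥ v) = 0 := by
      rw [← vecMul_add, dotProduct_mulVec, vecMul_vecMul, add_mul, hE.mul_right hΩ, hΩ]; simp
    rcases hX.noTr' hw hc hc1 d3 with h1 | h1
    · exact absurd h1 hv
    · rw [vecMul_add, add_comm]; exact h1)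
  refine ⟨φ, ?_⟩
  have h1 : Ω + vecMulVec (Ω *ᵥ v) φ + ξ = 0 := by
    have e : Ω + (Ω + ξ) + ξ = (Ω + Ω) + (ξ + ξ) := by abel
    rw [← hφ, e, hF.madd_self, hF.madd_self, add_zero]
  exact (hF.meq h1).symm

/-- **(B2)** -/
theorem b_two (hF : Two F) (hw : (w : Matrix ι ι F) = 1 + Ω) (hΩ : Ω * Ω = 0) (hX : XH w X)
    {x : Matrix.SpecialLinearGroup ι F} (hx : Act w X x) (hxξ : (x : Matrix ι ι F) = 1 + ξ) (hE : InE Ω ξ)
    {v : ι → F} (hv : Ω *ᵥ v ≠ 0) (h : ξ *ᵥ v = 0) : ∃ φ, ξ = vecMulVec (Ω *ᵥ v) φ := by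
  apply exists_vmv
  intro f hf
  obtain ⟨c, hc, hc1⟩ := exists_comm hF hw hΩ hx hxξ hE hf
  rw [h, dotProduct_zero, zero_smul, add_zero, zero_vecMulVec, add_zero] at hc1
  have d3 : (f ᵥ* ξ) ⬝ᵥ (Ω *ᵥ v) = 0 := by
    rw [dotProduct_mulVec, vecMul_vecMul, hE.mul_right hΩ]; simp
  rcases hX.noTr' hw hc hc1 d3 with h1 | h1
  · exact absurd h1 hv
  · exact h1

/-- **(B1')** -/
theorem b_one' (hF : Two F) (hw : (w : Matrix ι ι F) = 1 + Ω) (hΩ : Ω * Ω = 0) (hX : XH w X)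
    {x : Matrix.SpecialLinearGroup ι F} (hx : Act w X x) (hxξ : (x : Matrix ι ι F) = 1 + ξ) (hE : InE Ω ξ)
    {f : ι → F} (hf : f ᵥ* Ω ≠ 0) (h : f ᵥ* ξ = f ᵥ* Ω) {v : ι → F} (hv : f ⬝ᵥ (Ω *ᵥ v) = 0) :
    ξ *ᵥ v = Ω *ᵥ v := by
  obtain ⟨c, hc, hc1⟩ := exists_comm hF hw hΩ hx hxξ hE hv
  have h1 : f ⬝ᵥ (ξ *ᵥ v) = 0 := by rw [dotProduct_mulVec, h, ← dotProduct_mulVec]; exact hv
  rw [h1, zero_smul, add_zero, h, ← add_vecMulVec] at hc1
  have d3 : (f ᵥ* Ω) ⬝ᵥ (Ω *ᵥ v + ξ *ᵥ v) = 0 := by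
    rw [← add_mulVec, dotProduct_mulVec, vecMul_vecMul, mul_add, hE.mul_left hΩ, hΩ]; simp
  rcases hX.noTr' hw hc hc1 d3 with h2 | h2
  · exact (hF.veq h2).symm
  · exact absurd h2 hf

/-- **(B2')** -/
theorem b_two' (hF : Two F) (hw : (w : Matrix ι ι F) = 1 + Ω) (hΩ : Ω * Ω = 0) (hX : XH w X)
    {x : Matrix.SpecialLinearGroup ι F} (hx : Act w X x) (hxξ : (x : Matrix ι ι F) = 1 + ξ) (hE : InE Ω ξ)
    {f : ι → F} (hf : f ᵥ* Ω ≠ 0) (h : f ᵥ* ξ = 0) {v : ι → F} (hv : f ⬝ᵥ (Ω *ᵥ v) = 0) :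
    ξ *ᵥ v = 0 := by
  obtain ⟨c, hc, hc1⟩ := exists_comm hF hw hΩ hx hxξ hE hv
  have h1 : f ⬝ᵥ (ξ *ᵥ v) = 0 := by rw [dotProduct_mulVec, h, zero_dotProduct]
  rw [h1, zero_smul, add_zero, h, vecMulVec_zero, zero_add] at hc1
  have d3 : (f ᵥ* Ω) ⬝ᵥ (ξ *ᵥ v) = 0 := by
    rw [dotProduct_mulVec, vecMul_vecMul, hE.mul_left hΩ]; simp
  rcases hX.noTr' hw hc hc1 d3 with h2 | h2
  · exact h2
  · exact absurd h2 hf

/-- **(B3)**: the remaining case; `w ∈ X` and `Ω` has rank two. -/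
theorem main (hF : Two F) (hw : (w : Matrix ι ι F) = 1 + Ω) (hΩ : Ω * Ω = 0) (hX : XH w X) (h2 : R2 Ω)
    {x : Matrix.SpecialLinearGroup ι F} (hx : Act w X x) (hxξ : (x : Matrix ι ι F) = 1 + ξ) (hE : InE Ω ξ)
    (n1 : ∀ a φ, ξ ≠ vecMulVec a φ) (n2 : ∀ a φ, ξ ≠ Ω + vecMulVec a φ) :
    w ∈ X ∧ ∃ v z α β : ι → F, Ω = vecMulVec (Ω *ᵥ v) α + vecMulVec (Ω *ᵥ z) β ∧ α ⬝ᵥ v = 1 ∧ α ⬝ᵥ z = 0 ∧
      β ⬝ᵥ v = 0 ∧ β ⬝ᵥ z = 1 := by
  have h1 : ∀ v, Ω *ᵥ v ≠ 0 → ξ *ᵥ v ≠ 0 ∧ ξ *ᵥ v ≠ Ω *ᵥ v := by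
    intro v hv
    constructor
    · intro h
      obtain ⟨φ, hφ⟩ := b_two hF hw hΩ hX hx hxξ hE hv h
      exact n1 _ _ hφ
    · intro h
      obtain ⟨φ, hφ⟩ := b_one hF hw hΩ hX hx hxξ hE hv h
      exact n2 _ _ hφ
  -- the vectors
  obtain ⟨v, _, hv⟩ := h2 0
  obtain ⟨f, hfv, hf⟩ := h2.dual (Ω *ᵥ v)
  obtain ⟨c, hc, hc1⟩ := exists_comm hF hw hΩ hx hxξ hE hfv
  set η : Matrix ι ι F := vecMulVec (Ω *ᵥ v) (f ᵥ* ξ + (f ⬝ᵥ (ξ *ᵥ v)) • (f ᵥ* Ω)) +
      vecMulVec (ξ *ᵥ v) (f ᵥ* Ω) with hη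
  have hηv : ∀ u, η *ᵥ u = (f ⬝ᵥ (ξ *ᵥ u) + (f ⬝ᵥ (ξ *ᵥ v)) * (f ⬝ᵥ (Ω *ᵥ u))) • (Ω *ᵥ v) +
      (f ⬝ᵥ (Ω *ᵥ u)) • (ξ *ᵥ v) := by
    intro u
    rw [hη, add_mulVec, vmv_mulVec, vmv_mulVec, add_dotProduct, smul_dotProduct, smul_eq_mul,
      dotProduct_mulVec f ξ u, dotProduct_mulVec f Ω u]
  have hηE : InE Ω η := by
    refine ⟨fun u hu => ?_, fun g hg => ?_⟩
    · rw [hηv, hu, hE.ker u hu]; simp
    · rw [hη, vecMul_add, vecMul_vmv, vecMul_vmv, dotProduct_mulVec g Ω v, hg, dotProduct_mulVec g ξ v, hE.coker g hg]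
      simp
  have hcA := hX.act hc
  obtain ⟨i, hi⟩ := Function.ne_iff.mp hf
  have hz0 : ∃ z0 : ι → F, (f ᵥ* Ω) ⬝ᵥ z0 = 1 := by
    refine ⟨Pi.single i 1, ?_⟩
    rw [dotProduct_single, mul_one]
    exact hF.ne_zero hi
  obtain ⟨z0, hz0⟩ := hz0
  have hfz0 : f ⬝ᵥ (Ω *ᵥ z0) = 1 := by rw [dotProduct_mulVec]; exact hz0
  have hb : f ⬝ᵥ (ξ *ᵥ v) = 1 := by
    rcases hF (f ⬝ᵥ (ξ *ᵥ v)) with hb | hb
    · exfalso
      have h3 : η *ᵥ v = 0 := by rw [hηv, hb, hfv]; simp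
      obtain ⟨φ, hφ⟩ := b_two hF hw hΩ hX hcA hc1 hηE hv h3
      have h4 := hηv z0
      rw [hφ, vmv_mulVec, hb, zero_mul, add_zero, hfz0, one_smul] at h4
      have h5 : ξ *ᵥ v = (φ ⬝ᵥ z0 + f ⬝ᵥ (ξ *ᵥ z0)) • (Ω *ᵥ v) := by
        rw [add_smul, h4]
        rw [add_comm, ← add_assoc, hF.vadd_self, zero_add]
      rcases hF (φ ⬝ᵥ z0 + f ⬝ᵥ (ξ *ᵥ z0)) with h6 | h6
      · rw [h6, zero_smul] at h5
        exact (h1 v hv).1 h5
      · rw [h6, one_smul] at h5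
        exact (h1 v hv).2 h5
    · exact hb
  have h3 : η *ᵥ v = Ω *ᵥ v := by rw [hηv, hb, hfv]; simp
  obtain ⟨φ, hφ⟩ := b_one hF hw hΩ hX hcA hc1 hηE hv h3
  -- `Ω` has rank two
  set α0 : ι → F := f ᵥ* ξ + f ᵥ* Ω + φ with hα0
  have hΩ2 : Ω = vecMulVec (Ω *ᵥ v) α0 + vecMulVec (ξ *ᵥ v) (f ᵥ* Ω) := by
    have h4 : Ω + η = vecMulVec (Ω *ᵥ v) φ := by
      conv_lhs => rw [hφ]
      rw [← add_assoc, hF.madd_self, zero_add]
    have h5 : vecMulVec (Ω *ᵥ v) α0 + vecMulVec (ξ *ᵥ v) (f ᵥ* Ω) = η + vecMulVec (Ω *ᵥ v) φ := by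
      rw [hη, hb, one_smul, hα0, vecMulVec_add (Ω *ᵥ v) _ φ]
      abel
    rw [h5, ← h4, add_comm Ω η, ← add_assoc, hF.madd_self, zero_add]
  obtain ⟨z, hz⟩ : ∃ z, z = z0 + (α0 ⬝ᵥ z0) • v := ⟨_, rfl⟩
  have hΩz0 : Ω *ᵥ z0 = (α0 ⬝ᵥ z0) • (Ω *ᵥ v) + ξ *ᵥ v := by
    conv_lhs => rw [hΩ2]
    rw [add_mulVec, vmv_mulVec, vmv_mulVec, hz0, one_smul]
  have hΩz : Ω *ᵥ z = ξ *ᵥ v := by
    rw [hz, mulVec_add, mulVec_smul, hΩz0, add_comm, ← add_assoc, ← add_smul, hF.add_self, zero_smul, zero_add]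
  have hfΩz : f ⬝ᵥ (Ω *ᵥ z) = 1 := by rw [hΩz, hb]
  -- dual functionals
  obtain ⟨j, hj⟩ := Function.ne_iff.mp hv
  obtain ⟨f0, hf0⟩ : ∃ f0 : ι → F, f0 ⬝ᵥ (Ω *ᵥ v) = 1 := by
    refine ⟨Pi.single j 1, ?_⟩
    rw [single_dotProduct, one_mul]
    exact hF.ne_zero hj
  obtain ⟨f1, hf1⟩ : ∃ f1, f1 = f0 + (f0 ⬝ᵥ (ξ *ᵥ v)) • f := ⟨_, rfl⟩
  have hf11 : f1 ⬝ᵥ (Ω *ᵥ v) = 1 := by rw [hf1, add_dotProduct, smul_dotProduct, hfv, hf0]; simp
  have hf12 : f1 ⬝ᵥ (ξ *ᵥ v) = 0 := by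
    rw [hf1, add_dotProduct, smul_dotProduct, hb, smul_eq_mul, mul_one, hF.add_self]
  have hξ2 := exists_vmv_two hf11 hf12 hfv hb (B := ξ) (by
    intro g hg1 hg2
    apply hE.coker
    rw [hΩ2, vecMul_add, vecMul_vmv, vecMul_vmv, hg1, hg2, zero_smul, zero_smul, add_zero])
  -- `f (ξ z) = 1`
  have hΩz' : Ω *ᵥ z ≠ 0 := by rw [hΩz]; exact (h1 v hv).1
  have hfξz : f ⬝ᵥ (ξ *ᵥ z) = 1 := by
    rcases hF (f ⬝ᵥ (ξ *ᵥ z)) with h4 | h4
    · exfalso
      have h5 : ξ *ᵥ z = ((f1 ᵥ* ξ) ⬝ᵥ z) • (Ω *ᵥ v) := by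
        conv_lhs => rw [hξ2]
        rw [add_mulVec, vmv_mulVec, vmv_mulVec, ← dotProduct_mulVec f ξ z, h4, zero_smul, add_zero]
      rcases hF ((f1 ᵥ* ξ) ⬝ᵥ z) with h6 | h6
      · rw [h6, zero_smul] at h5
        exact (h1 z hΩz').1 h5
      · rw [h6, one_smul] at h5
        have h7 : Ω *ᵥ (z + v) ≠ 0 := by
          rw [mulVec_add, hΩz]
          intro h8
          exact (h1 v hv).2 (hF.veq h8)
        apply (h1 (z + v) h7).2
        rw [mulVec_add, mulVec_add, h5, hΩz, add_comm]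
    · exact h4
  -- `φ = 0`
  have hφv : φ ⬝ᵥ v = 0 := by
    have h4 := h3
    rw [hφ, add_mulVec, vmv_mulVec] at h4
    have h5 := add_eq_left.mp h4
    rcases hF (φ ⬝ᵥ v) with h6 | h6
    · exact h6
    · rw [h6, one_smul] at h5; exact absurd h5 hv
  have hφz : φ ⬝ᵥ z = 0 := by
    have h4 := hηv z
    rw [hfξz, hb, hfΩz, one_mul, hF.one_add_one, zero_smul, zero_add, one_smul, ← hΩz, hφ, add_mulVec, vmv_mulVec] at h4
    have h5 := add_eq_left.mp h4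
    rcases hF (φ ⬝ᵥ z) with h6 | h6
    · exact h6
    · rw [h6, one_smul] at h5; exact absurd h5 hv
  -- functionals
  have hα0v : α0 ⬝ᵥ v = 1 := by
    rw [hα0, add_dotProduct, add_dotProduct, ← dotProduct_mulVec, ← dotProduct_mulVec, hb, hfv, hφv]; simp
  have hβv : (f ᵥ* Ω) ⬝ᵥ v = 0 := by rw [← dotProduct_mulVec]; exact hfv
  have hβz : (f ᵥ* Ω) ⬝ᵥ z = 1 := by rw [← dotProduct_mulVec]; exact hfΩz
  have hα0z : α0 ⬝ᵥ z = 0 := by
    rw [hα0, add_dotProduct, add_dotProduct, ← dotProduct_mulVec, ← dotProduct_mulVec, hfξz, hfΩz, hφz, hF.one_add_one,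
      add_zero]
  have hφ0 : vecMulVec (Ω *ᵥ v) φ = 0 := by
    have h4 : ∀ u, φ ⬝ᵥ u = 0 := by
      intro u
      have h5 : Ω *ᵥ (u - (α0 ⬝ᵥ u) • v - ((f ᵥ* Ω) ⬝ᵥ u) • z) = 0 := by
        rw [mulVec_sub, mulVec_sub, mulVec_smul, mulVec_smul, hΩz]
        conv_lhs => rw [hΩ2]
        rw [add_mulVec, vmv_mulVec, vmv_mulVec, ← hΩ2]
        abel
      have h6 := hηE.ker _ h5
      rw [hφ, add_mulVec, h5, zero_add, vmv_mulVec] at h6
      have h7 : φ ⬝ᵥ (u - (α0 ⬝ᵥ u) • v - ((f ᵥ* Ω) ⬝ᵥ u) • z) = 0 := by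
        rcases hF (φ ⬝ᵥ (u - (α0 ⬝ᵥ u) • v - ((f ᵥ* Ω) ⬝ᵥ u) • z)) with h8 | h8
        · exact h8
        · rw [h8, one_smul] at h6; exact absurd h6 hv
      rw [dotProduct_sub, dotProduct_sub, dotProduct_smul, dotProduct_smul, hφv, hφz, smul_zero, smul_zero, sub_zero,
        sub_zero] at h7
      exact h7
    have h5 : φ = 0 := by
      ext i
      have h6 := h4 (Pi.single i 1)
      rw [dotProduct_single, mul_one] at h6
      exact h6
    rw [h5, vecMulVec_zero]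
  have hcw : c = w := by
    apply Subtype.ext
    rw [hc1, hw, hφ, hφ0, add_zero]
  refine ⟨by rw [← hcw]; exact hc, v, z, α0, f ᵥ* Ω, ?_, hα0v, hα0z, hβv, hβz⟩
  rw [hΩz]; exact hΩ2

end Setting

end Cfsg.Agent.OddHalf.D4.SLTwo

end

-- merged: Cfsg.Agent.OddHalf.D4.SLTwo.Dual
section

/-!
# ODD, D4, `K = L_n(2)`: dual functionals
-/

set_option autoImplicit false
set_option linter.unusedSectionVars false

namespace Cfsg.Agent.OddHalf.D4.SLTwo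

open Matrix Cfsg.Agent.ClassicalGeometry.AutPSL.Root

variable {ι F : Type*} [Fintype ι] [DecidableEq ι] [Field F]

theorem exists_vec (φ : (ι → F) →ₗ[F] F) : ∃ g : ι → F, ∀ v, g ⬝ᵥ v = φ v := by
  refine ⟨fun i => φ (Pi.single i 1), fun v => ?_⟩
  rw [LinearMap.pi_apply_eq_sum_univ φ v]
  simp only [dotProduct, smul_eq_mul]
  apply Finset.sum_congr rfl
  intro i _
  rw [mul_comm]
  congr 2
  ext j
  simp [Pi.single_apply, eq_comm]

theorem exists_dual {k : ℕ} {v : Fin k → (ι → F)} (h : LinearIndependent F v) (i : Fin k) :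
    ∃ f : ι → F, ∀ j, f ⬝ᵥ v j = if i = j then 1 else 0 := by
  let φ : ↥(Submodule.span F (Set.range v)) →ₗ[F] F := (Finsupp.lapply i).comp h.repr
  obtain ⟨ψ, hψ⟩ := LinearMap.exists_extend φ
  obtain ⟨g, hg⟩ := exists_vec ψ
  refine ⟨g, fun j => ?_⟩
  rw [hg]
  have h1 : v j ∈ Submodule.span F (Set.range v) := Submodule.subset_span ⟨j, rfl⟩
  have h2 : ψ (v j) = φ ⟨v j, h1⟩ := by
    rw [← hψ]; rfl
  rw [h2]
  show (h.repr ⟨v j, h1⟩) i = _
  rw [h.repr_eq_single j ⟨v j, h1⟩ rfl, Finsupp.single_apply]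
  simp [eq_comm]

/-- Separation of a vector from a two-dimensional space. -/
theorem exists_sep {b b' m : ι → F} (hm : m ∉ Submodule.span F {b, b'}) :
    ∃ μ : ι → F, μ ⬝ᵥ b = 0 ∧ μ ⬝ᵥ b' = 0 ∧ μ ⬝ᵥ m ≠ 0 := by
  obtain ⟨φ, hφ, hle⟩ := Submodule.exists_le_ker_of_notMem hm
  obtain ⟨g, hg⟩ := exists_vec φ
  refine ⟨g, ?_, ?_, ?_⟩
  · rw [hg]
    exact hle (Submodule.subset_span (by simp))
  · rw [hg]
    exact hle (Submodule.subset_span (by simp))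
  · rw [hg]; exact hφ

/-- A vector killed by two functionals outside a given two-dimensional space. -/
theorem exists_out (hn : 5 ≤ Fintype.card ι) (α β b b' : ι → F) :
    ∃ m : ι → F, α ⬝ᵥ m = 0 ∧ β ⬝ᵥ m = 0 ∧ m ∉ Submodule.span F {b, b'} := by
  let Φ : (ι → F) →ₗ[F] (Fin 2 → F) :=
    { toFun := fun m => ![α ⬝ᵥ m, β ⬝ᵥ m]
      map_add' := fun x y => by
        ext i; fin_cases i <;> simp [dotProduct_add]
      map_smul' := fun c x => by
        ext i; fin_cases i <;> simp [dotProduct_smul] }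
  by_contra hcon
  push Not at hcon
  have h1 : LinearMap.ker Φ ≤ Submodule.span F {b, b'} := by
    intro m hm
    have h2 : Φ m = 0 := hm
    apply hcon m
    · exact congrFun h2 0
    · exact congrFun h2 1
  have h2 := LinearMap.finrank_range_add_finrank_ker Φ
  have h3 : Module.finrank F ↥(LinearMap.range Φ) ≤ 2 := by
    have := Submodule.finrank_le (LinearMap.range Φ)
    simpa using this
  have h4 := Submodule.finrank_mono h1
  have h5 : Module.finrank F ↥(Submodule.span F {b, b'}) ≤ 2 := by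
    have h6 : ({b, b'} : Set (ι → F)) = Set.range ![b, b'] := by
      ext x
      simp only [Set.mem_insert_iff, Set.mem_singleton_iff, Set.mem_range, Fin.exists_fin_two]
      constructor
      · rintro (h | h)
        · exact Or.inl h.symm
        · exact Or.inr h.symm
      · rintro (h | h)
        · exact Or.inl h.symm
        · exact Or.inr h.symm
    rw [h6]
    exact (finrank_range_le_card (R := F) ![b, b']).trans (by simp)
  rw [Module.finrank_fintype_fun_eq_card] at h2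
  omega

/-- The vectors and functionals used for an `Ω` of rank two. -/
structure Frm (Ω : Matrix ι ι F) (v z a a' m α β l l' μ : ι → F) : Prop where
  hv : Ω *ᵥ v = a
  hz : Ω *ᵥ z = a'
  hm : Ω *ᵥ m = 0
  Ωe : Ω = vecMulVec a α + vecMulVec a' β
  αv : α ⬝ᵥ v = 1
  αz : α ⬝ᵥ z = 0
  αa : α ⬝ᵥ a = 0
  αa' : α ⬝ᵥ a' = 0
  αm : α ⬝ᵥ m = 0
  βv : β ⬝ᵥ v = 0
  βz : β ⬝ᵥ z = 1
  βa : β ⬝ᵥ a = 0
  βa' : β ⬝ᵥ a' = 0
  βm : β ⬝ᵥ m = 0
  lv : l ⬝ᵥ v = 0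
  lz : l ⬝ᵥ z = 0
  la : l ⬝ᵥ a = 1
  la' : l ⬝ᵥ a' = 0
  lm : l ⬝ᵥ m = 0
  lv' : l' ⬝ᵥ v = 0
  lz' : l' ⬝ᵥ z = 0
  l'a : l' ⬝ᵥ a = 0
  l'a' : l' ⬝ᵥ a' = 1
  l'm : l' ⬝ᵥ m = 0
  μv : μ ⬝ᵥ v = 0
  μz : μ ⬝ᵥ z = 0
  μa : μ ⬝ᵥ a = 0
  μa' : μ ⬝ᵥ a' = 0
  μm : μ ⬝ᵥ m = 1

theorem exists_frm (hF : Two F) (hn : 5 ≤ Fintype.card ι) {Ω : Matrix ι ι F} (hΩ : Ω * Ω = 0) (h2 : R2 Ω)
    {v z α β : ι → F} (he : Ω = vecMulVec (Ω *ᵥ v) α + vecMulVec (Ω *ᵥ z) β) (αv : α ⬝ᵥ v = 1) (αz : α ⬝ᵥ z = 0)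
    (βv : β ⬝ᵥ v = 0) (βz : β ⬝ᵥ z = 1) : ∃ a a' m l l' μ, Frm Ω v z a a' m α β l l' μ := by
  obtain ⟨a, ha⟩ : ∃ a, a = Ω *ᵥ v := ⟨_, rfl⟩
  obtain ⟨a', ha'⟩ : ∃ a', a' = Ω *ᵥ z := ⟨_, rfl⟩
  rw [← ha, ← ha'] at he
  have hΩa : Ω *ᵥ a = 0 := by rw [ha, mulVec_mulVec, hΩ, zero_mulVec]
  have hΩa' : Ω *ᵥ a' = 0 := by rw [ha', mulVec_mulVec, hΩ, zero_mulVec]
  -- `a`, `a'` are independent
  have hab : ∀ c c' : F, c • a + c' • a' = 0 → c = 0 ∧ c' = 0 := by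
    have key : ∀ (b φ : ι → F), Ω ≠ vecMulVec b φ := by
      intro b φ h
      obtain ⟨u, hu, hu'⟩ := h2 φ
      apply hu'
      rw [h, vmv_mulVec, hu, zero_smul]
    intro c c' h
    rcases hF c with rfl | rfl
    · rcases hF c' with rfl | rfl
      · exact ⟨rfl, rfl⟩
      · exfalso
        rw [zero_smul, one_smul, zero_add] at h
        apply key a α
        conv_lhs => rw [he]
        rw [h, zero_vecMulVec, add_zero]
    · rcases hF c' with rfl | rfl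
      · exfalso
        rw [zero_smul, one_smul, add_zero] at h
        apply key a' β
        conv_lhs => rw [he]
        rw [h, zero_vecMulVec, zero_add]
      · exfalso
        rw [one_smul, one_smul] at h
        have h' := hF.veq h
        apply key a (α + β)
        conv_lhs => rw [he]
        rw [← h', vecMulVec_add]
  obtain ⟨m, hαm, hβm, hm⟩ := exists_out hn α β a a'
  have hΩm : Ω *ᵥ m = 0 := by
    rw [he, add_mulVec, vmv_mulVec, vmv_mulVec, hαm, hβm, zero_smul, zero_smul, add_zero]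
  have hli : LinearIndependent F ![a, a', m, v, z] := by
    rw [Fintype.linearIndependent_iff]
    intro g hg
    rw [Fin.sum_univ_five] at hg
    change g 0 • a + g 1 • a' + g 2 • m + g 3 • v + g 4 • z = 0 at hg
    have h3 : g 3 • a + g 4 • a' = 0 := by
      have := congrArg (fun u => Ω *ᵥ u) hg
      simp only [mulVec_add, mulVec_smul, hΩa, hΩa', hΩm, ← ha, ← ha', smul_zero, zero_add, mulVec_zero] at this
      exact this
    obtain ⟨h31, h32⟩ := hab _ _ h3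
    rw [h31, h32, zero_smul, zero_smul, add_zero, add_zero] at hg
    have h4 : g 2 = 0 := by
      rcases hF (g 2) with h | h
      · exact h
      · exfalso
        rw [h, one_smul] at hg
        apply hm
        rw [Submodule.mem_span_pair]
        exact ⟨g 0, g 1, hF.veq hg⟩
    rw [h4, zero_smul, add_zero] at hg
    obtain ⟨h5, h6⟩ := hab _ _ hg
    intro i
    fin_cases i
    · exact h5
    · exact h6
    · exact h4
    · exact h31
    · exact h32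
  obtain ⟨l, hl⟩ := exists_dual hli 0
  obtain ⟨l', hl'⟩ := exists_dual hli 1
  obtain ⟨μ, hμ⟩ := exists_dual hli 2
  have hα0 : ∀ u, Ω *ᵥ u = 0 → α ⬝ᵥ u = 0 ∧ β ⬝ᵥ u = 0 := by
    intro u hu
    rw [he, add_mulVec, vmv_mulVec, vmv_mulVec] at hu
    exact hab _ _ hu
  refine ⟨a, a', m, l, l', μ, ⟨ha.symm, ha'.symm, hΩm, he, αv, αz, (hα0 a hΩa).1, (hα0 a' hΩa').1, hαm, βv, βz,
    (hα0 a hΩa).2, (hα0 a' hΩa').2, hβm, ?_, ?_, ?_, ?_, ?_, ?_, ?_, ?_, ?_, ?_, ?_, ?_, ?_, ?_, ?_⟩⟩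
  · simpa using hl 3
  · simpa using hl 4
  · simpa using hl 0
  · simpa using hl 1
  · simpa using hl 2
  · simpa using hl' 3
  · simpa using hl' 4
  · simpa using hl' 0
  · simpa using hl' 1
  · simpa using hl' 2
  · simpa using hμ 3
  · simpa using hμ 4
  · simpa using hμ 0
  · simpa using hμ 1
  · simpa using hμ 2

end Cfsg.Agent.OddHalf.D4.SLTwo

end

-- merged: Cfsg.Agent.OddHalf.D4.SLTwo.Ends
section

/-!
# ODD, D4, `K = L_n(2)`: elements of odd order, graph automorphisms, and `w` as a product of elements of odd order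
-/

set_option autoImplicit false
set_option linter.unusedSectionVars false

namespace Cfsg.Agent.OddHalf.D4.SLTwo

open Matrix Cfsg.Agent.ClassicalGeometry.AutPSL.Root Cfsg.Agent.ClassicalGeometry.AutPSL.Auto

variable {ι F : Type*} [Fintype ι] [DecidableEq ι] [Field F]

variable {w : Matrix.SpecialLinearGroup ι F} {Ω ξ : Matrix ι ι F} {X : Subgroup (Matrix.SpecialLinearGroup ι F)}

theorem inv_comm (hw : (w : Matrix ι ι F) = 1 + Ω) {x : Matrix.SpecialLinearGroup ι F} (h : x * w = w * x) :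
    ((x⁻¹ : Matrix.SpecialLinearGroup ι F) : Matrix ι ι F) * Ω = Ω * (x⁻¹ : Matrix.SpecialLinearGroup ι F) := by
  rw [← comm_iff hw]
  calc x⁻¹ * w = x⁻¹ * (w * x) * x⁻¹ := by group
    _ = x⁻¹ * (x * w) * x⁻¹ := by rw [h]
    _ = w * x⁻¹ := by group

/-- **(M2)** `X` has no elements of odd order (`rank Ω < n / 2`). -/
theorem no_odd (hF : Two F) (hw : (w : Matrix ι ι F) = 1 + Ω) (hΩ : Ω * Ω = 0) (hX : XH w X) {m μ : ι → F}
    (hm : Ω *ᵥ m = 0) (hμ : μ ᵥ* Ω = 0) (hμm : μ ⬝ᵥ m = 1) {v : ι → F} (hv : Ω *ᵥ v ≠ 0)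
    {x : Matrix.SpecialLinearGroup ι F} (hx : x ∈ X) (hodd : Odd (orderOf x)) : x = 1 := by
  have hxw := hX.com x hx
  have hxΩ : (x : Matrix ι ι F) * Ω = Ω * x := (comm_iff hw x).mp hxw
  have hxΩ' := inv_comm hw hxw
  obtain ⟨a, ha⟩ : ∃ a, a = Ω *ᵥ v := ⟨_, rfl⟩
  have ha0 : a ≠ 0 := by rw [ha]; exact hv
  have hΩa : Ω *ᵥ a = 0 := by rw [ha, mulVec_mulVec, hΩ, zero_mulVec]
  have hμa : μ ⬝ᵥ a = 0 := by rw [ha, dotProduct_mulVec, hμ, zero_dotProduct]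
  -- `x` fixes `a`
  have hxa : (x : Matrix ι ι F) *ᵥ a = a := by
    obtain ⟨μ', hμ'⟩ : ∃ μ', μ' = μ ᵥ* ((x⁻¹ : Matrix.SpecialLinearGroup ι F) : Matrix ι ι F) := ⟨_, rfl⟩
    have hμ'Ω : μ' ᵥ* Ω = 0 := by rw [hμ', vecMul_vecMul, hxΩ', ← vecMul_vecMul, hμ, zero_vecMul]
    have hs := (hX.act hx).act _ (tr_comm hw hμa hΩa hμ)
    rw [conj_tr, hF.tr_inv] at hs
    obtain ⟨s, hs'⟩ : ∃ s, s = tr ((x : Matrix ι ι F) *ᵥ a) (μ ᵥ* ((x⁻¹ : Matrix.SpecialLinearGroup ι F) : Matrix ι ι F))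
      (conj_tr_aux x hμa) * tr a μ hμa := ⟨_, rfl⟩
    rw [← hs'] at hs
    have hsv : ∀ u, (s : Matrix ι ι F) *ᵥ u = (u + (μ ⬝ᵥ u) • a) + (μ' ⬝ᵥ (u + (μ ⬝ᵥ u) • a)) • ((x : Matrix ι ι F) *ᵥ a) := by
      intro u
      rw [hs', sl_mul_mulVec, tr_mulVec, tr_mulVec, ← hμ']
    have hsa : (s : Matrix ι ι F) *ᵥ (Ω *ᵥ v) = Ω *ᵥ v := by
      rw [hsv, ← ha, hμa, zero_smul, add_zero, ha, dotProduct_mulVec, hμ'Ω, zero_dotProduct, zero_smul, add_zero]
    have h1 := (fix_of_fix hF hw hΩ hX (hX.act hs) hv hsa).2 m hm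
    rw [hsv, hμm, one_smul, add_assoc] at h1
    have h2 := add_eq_left.mp h1
    rcases hF (μ' ⬝ᵥ (m + a)) with h3 | h3
    · rw [h3, zero_smul, add_zero] at h2
      exact absurd h2 ha0
    · rw [h3, one_smul] at h2
      exact (hF.veq h2).symm
  have h1 := fix_of_fix hF hw hΩ hX (hX.act hx) hv (by rw [← ha]; exact hxa)
  obtain ⟨ξ, hξ⟩ : ∃ ξ : Matrix ι ι F, (x : Matrix ι ι F) = 1 + ξ := ⟨(x : Matrix ι ι F) - 1, by abel⟩
  have hE := inE_of_fix hF hξ h1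
  have h2 : x * x = 1 := by
    apply Subtype.ext
    rw [Matrix.SpecialLinearGroup.coe_mul, Matrix.SpecialLinearGroup.coe_one, hξ]
    have e : (1 + ξ) * (1 + ξ) = 1 + (ξ + ξ) + ξ * ξ := by noncomm_ring
    rw [e, hF.madd_self, hE.sq hΩ, add_zero, add_zero]
  have h3 : orderOf x ∣ 2 := orderOf_dvd_of_pow_eq_one (by rw [pow_two]; exact h2)
  rcases (Nat.dvd_prime Nat.prime_two).mp h3 with h4 | h4
  · exact orderOf_eq_one_iff.mp h4
  · rw [h4] at hodd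
    exact absurd hodd (by decide)

/-- The contragredient automorphism on transvections. -/
theorem itr_tr (hF : Two F) {v f : ι → F} (h : f ⬝ᵥ v = 0) (h' : v ⬝ᵥ f = 0) :
    itr (tr v f h) = tr f v h' := by
  apply Subtype.ext
  rw [coe_itr, hF.tr_inv, coe_tr, coe_tr, transpose_add, transpose_one, transpose_vecMulVec]

theorem out_tr (hF : Two F) (A : GL ι F) {v f : ι → F} (h : f ⬝ᵥ v = 0) (h' : v ⬝ᵥ f = 0) :
    (cj A * itr : MulAut (Matrix.SpecialLinearGroup ι F)) (tr v f h) = tr ((A : Matrix ι ι F) *ᵥ f) (v ᵥ* ((A⁻¹ : GL ι F) : Matrix ι ι F))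
      (by rw [vecMul_inv_dotProduct, h']) := by
  rw [MulAut.mul_apply, itr_tr hF h h', cj_tr]

/-- **(M3)** the data of a graph automorphism commuting with `w`. -/
structure Gr (w : Matrix.SpecialLinearGroup ι F) (Ω : Matrix ι ι F) (X : Subgroup (Matrix.SpecialLinearGroup ι F))
    (A B : Matrix ι ι F) : Prop where
  ba : B * A = 1
  ab : A * B = 1
  com : A * Ωᵀ = Ω * A
  act : ∀ (v f : ι → F) (h : f ⬝ᵥ v = 0) (h' : (v ᵥ* B) ⬝ᵥ (A *ᵥ f) = 0), Ω *ᵥ v = 0 → f ᵥ* Ω = 0 →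
    tr (A *ᵥ f) (v ᵥ* B) h' * tr v f h ∈ X

theorem Gr.com' {A B : Matrix ι ι F} (g : Gr w Ω X A B) : Ωᵀ * B = B * Ω := by
  calc Ωᵀ * B = B * A * Ωᵀ * B := by rw [g.ba, one_mul]
    _ = B * (A * Ωᵀ) * B := by rw [mul_assoc B A]
    _ = B * (Ω * A) * B := by rw [g.com]
    _ = B * Ω * (A * B) := by simp only [mul_assoc]
    _ = B * Ω := by rw [g.ab, mul_one]

theorem Gr.aux {A B : Matrix ι ι F} (g : Gr w Ω X A B) {v f : ι → F} (h : f ⬝ᵥ v = 0) :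
    (v ᵥ* B) ⬝ᵥ (A *ᵥ f) = 0 := by
  rw [← dotProduct_mulVec, mulVec_mulVec, g.ba, one_mulVec, dotProduct_comm]; exact h

/-- No graph automorphism, first case. -/
theorem no_graph_one (hF : Two F) (hw : (w : Matrix ι ι F) = 1 + Ω) (hΩ : Ω * Ω = 0) (hX : XH w X) {m μ : ι → F}
    (hm : Ω *ᵥ m = 0) (hμ : μ ᵥ* Ω = 0) (hμm : μ ⬝ᵥ m = 1) {u : ι → F} (hu : Ω *ᵥ u ≠ 0)
    {A B : Matrix ι ι F} (g : Gr w Ω X A B) : False := by
  obtain ⟨a, ha⟩ : ∃ a, a = Ω *ᵥ u := ⟨_, rfl⟩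
  have ha0 : a ≠ 0 := by rw [ha]; exact hu
  have hΩa : Ω *ᵥ a = 0 := by rw [ha, mulVec_mulVec, hΩ, zero_mulVec]
  have hμa : μ ⬝ᵥ a = 0 := by rw [ha, dotProduct_mulVec, hμ, zero_dotProduct]
  have hs := g.act a μ hμa (g.aux hμa) hΩa hμ
  obtain ⟨s, hs'⟩ : ∃ s, s = tr (A *ᵥ μ) (a ᵥ* B) (g.aux hμa) * tr a μ hμa := ⟨_, rfl⟩
  rw [← hs'] at hs
  have hq : a ᵥ* B = (u ᵥ* B) ᵥ* Ω := by
    rw [ha, ← vecMul_transpose, vecMul_vecMul, g.com', vecMul_vecMul]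
  have hsv : ∀ x, (s : Matrix ι ι F) *ᵥ x = (x + (μ ⬝ᵥ x) • a) + ((a ᵥ* B) ⬝ᵥ (x + (μ ⬝ᵥ x) • a)) • (A *ᵥ μ) := by
    intro x
    rw [hs', sl_mul_mulVec, tr_mulVec, tr_mulVec]
  have hqa : (a ᵥ* B) ⬝ᵥ a = 0 := by rw [hq, ← dotProduct_mulVec, hΩa, dotProduct_zero]
  have hqm : (a ᵥ* B) ⬝ᵥ m = 0 := by rw [hq, ← dotProduct_mulVec, hm, dotProduct_zero]
  have hsa : (s : Matrix ι ι F) *ᵥ (Ω *ᵥ u) = Ω *ᵥ u := by
    rw [hsv, ← ha, hμa, zero_smul, add_zero, hqa, zero_smul, add_zero]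
  have h1 := (fix_of_fix hF hw hΩ hX (hX.act hs) hu hsa).2 m hm
  rw [hsv, hμm, one_smul, dotProduct_add, hqm, hqa, add_zero, zero_smul, add_zero] at h1
  exact ha0 (add_eq_left.mp h1)

/-- No graph automorphism, second case. -/
theorem no_graph_two (hF : Two F) (hw : (w : Matrix ι ι F) = 1 + Ω) (hΩ : Ω * Ω = 0) (hX : XH w X) (h2 : R2 Ω)
    (h3 : R3 Ω) {A B : Matrix ι ι F} (g : Gr w Ω X A B) : False := by
  obtain ⟨u, _, hu⟩ := h2 0
  obtain ⟨a, ha⟩ : ∃ a, a = Ω *ᵥ u := ⟨_, rfl⟩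
  have ha0 : a ≠ 0 := by rw [ha]; exact hu
  have hΩa : Ω *ᵥ a = 0 := by rw [ha, mulVec_mulVec, hΩ, zero_mulVec]
  have hq : a ᵥ* B = (u ᵥ* B) ᵥ* Ω := by
    rw [ha, ← vecMul_transpose, vecMul_vecMul, g.com', vecMul_vecMul]
  have hqa : (a ᵥ* B) ⬝ᵥ a = 0 := by rw [hq, ← dotProduct_mulVec, hΩa, dotProduct_zero]
  -- every `f = k Ω` is `0` or `a B`
  have key : ∀ k : ι → F, k ᵥ* Ω = 0 ∨ k ᵥ* Ω = a ᵥ* B := by
    intro k
    by_cases hk : k ᵥ* Ω = 0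
    · exact Or.inl hk
    right
    obtain ⟨f, hf⟩ : ∃ f, f = k ᵥ* Ω := ⟨_, rfl⟩
    have hfΩ : f ᵥ* Ω = 0 := by rw [hf, vecMul_vecMul, hΩ, vecMul_zero]
    have hfa : f ⬝ᵥ a = 0 := by rw [hf, ← dotProduct_mulVec, hΩa, dotProduct_zero]
    have hs := g.act a f hfa (g.aux hfa) hΩa hfΩ
    obtain ⟨s, hs'⟩ : ∃ s, s = tr (A *ᵥ f) (a ᵥ* B) (g.aux hfa) * tr a f hfa := ⟨_, rfl⟩
    rw [← hs'] at hs
    have hAf : A *ᵥ f = Ω *ᵥ (A *ᵥ k) := by
      rw [hf, ← mulVec_transpose, mulVec_mulVec, g.com, mulVec_mulVec]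
    have hsσ : (s : Matrix ι ι F) = 1 + (vecMulVec (A *ᵥ f) (a ᵥ* B) + vecMulVec a f) := by
      have e : ∀ P Q : Matrix ι ι F, (1 + P) * (1 + Q) = 1 + (P + Q) + P * Q := by
        intro P Q; noncomm_ring
      rw [hs', Matrix.SpecialLinearGroup.coe_mul, coe_tr, coe_tr, e, vmv_vmv, hqa, zero_smul, add_zero]
    have hE : InE Ω (vecMulVec (A *ᵥ f) (a ᵥ* B) + vecMulVec a f) := by
      refine ⟨fun x hx => ?_, fun x hx => ?_⟩
      · have e1 : (a ᵥ* B) ⬝ᵥ x = 0 := by rw [hq, ← dotProduct_mulVec, hx, dotProduct_zero]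
        have e2 : f ⬝ᵥ x = 0 := by rw [hf, ← dotProduct_mulVec, hx, dotProduct_zero]
        rw [add_mulVec, vmv_mulVec, vmv_mulVec, e1, e2]
        simp
      · have e1 : x ⬝ᵥ (A *ᵥ f) = 0 := by rw [hAf, dotProduct_mulVec, hx, zero_dotProduct]
        have e2 : x ⬝ᵥ a = 0 := by rw [ha, dotProduct_mulVec, hx, zero_dotProduct]
        rw [vecMul_add, vecMul_vmv, vecMul_vmv, e1, e2]
        simp
    obtain ⟨v', h31, h32, hv'⟩ := h3 (a ᵥ* B) f
    obtain ⟨φ, hφ⟩ := b_two hF hw hΩ hX (hX.act hs) hsσ hE hv' (by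
      rw [add_mulVec, vmv_mulVec, vmv_mulVec, h31, h32]; simp)
    have hφ0 : φ ⬝ᵥ (Ω *ᵥ v') = 0 := by
      have h4 := hE.mul_right hΩ
      rw [hφ, vmv_mul] at h4
      obtain ⟨i, hi⟩ := Function.ne_iff.mp hv'
      have h5 : φ ᵥ* Ω = 0 := by
        ext j
        have h6 := congrFun (congrFun h4 i) j
        rw [vecMulVec_apply] at h6
        have h7 : (Ω *ᵥ v') i ≠ 0 := hi
        rcases mul_eq_zero.mp h6 with h8 | h8
        · exact absurd h8 h7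
        · exact h8
      rw [dotProduct_mulVec, h5, zero_dotProduct]
    rcases hX.noTr' hw hs (by rw [hsσ, hφ]) hφ0 with h4 | h4
    · exact absurd h4 hv'
    · rw [h4, vecMulVec_zero] at hφ
      have h5 := hF.meq hφ
      -- compare a row
      obtain ⟨i, hi⟩ := Function.ne_iff.mp ha0
      have hai : a i = 1 := hF.ne_zero hi
      have h6 : ∀ j, (A *ᵥ f) i * (a ᵥ* B) j = f j := by
        intro j
        have h7 := congrFun (congrFun h5 i) j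
        rw [vecMulVec_apply, vecMulVec_apply, hai, one_mul] at h7
        exact h7
      rcases hF ((A *ᵥ f) i) with h7 | h7
      · exfalso
        apply hk
        rw [← hf]
        ext j
        rw [← h6 j, h7, zero_mul]; rfl
      · rw [← hf]
        ext j
        rw [← h6 j, h7, one_mul]
  obtain ⟨v, hv, hv'⟩ := h2 (a ᵥ* B)
  apply hv'
  ext i
  have h4 : (Ω *ᵥ v) i = ((Pi.single i 1 : ι → F) ᵥ* Ω) ⬝ᵥ v := by
    rw [← dotProduct_mulVec, single_dotProduct, one_mul]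
  rw [h4]
  rcases key (Pi.single i 1) with h5 | h5
  · rw [h5, zero_dotProduct]; rfl
  · rw [h5, hv]; rfl

/-! ### `w` is a product of elements of odd order -/

theorem pow_three_of_braid {G : Type*} [Group G] {a b : G} (ha : a * a = 1) (hb : b * b = 1)
    (h : a * b * a = b * a * b) : (a * b) ^ 3 = 1 := by
  calc (a * b) ^ 3 = (a * b * a) * (b * a * b) := by rw [pow_three]; simp only [mul_assoc]
    _ = (a * b * a) * (a * b * a) := by rw [← h]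
    _ = a * b * (a * a) * b * a := by group
    _ = a * (b * b) * a := by rw [ha]; group
    _ = 1 := by rw [hb, mul_one, ha]

theorem mem_odd (hF : Two F) (hw : (w : Matrix ι ι F) = 1 + Ω) {v z a a' m α β l l' μ : ι → F}
    (hΩ : Ω * Ω = 0) (h : Frm Ω v z a a' m α β l l' μ) :
    w ∈ Subgroup.closure {e : Matrix.SpecialLinearGroup ι F | e * w = w * e ∧ Odd (orderOf e)} := by
  set C := Subgroup.closure {e : Matrix.SpecialLinearGroup ι F | e * w = w * e ∧ Odd (orderOf e)} with hC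
  have hαΩ : α ᵥ* Ω = 0 := by rw [h.Ωe, vecMul_add, vecMul_vmv, vecMul_vmv, h.αa, h.αa']; simp
  have hβΩ : β ᵥ* Ω = 0 := by rw [h.Ωe, vecMul_add, vecMul_vmv, vecMul_vmv, h.βa, h.βa']; simp
  have hlΩ : l ᵥ* Ω = α := by rw [h.Ωe, vecMul_add, vecMul_vmv, vecMul_vmv, h.la, h.la']; simp
  have hlΩ' : l' ᵥ* Ω = β := by rw [h.Ωe, vecMul_add, vecMul_vmv, vecMul_vmv, h.l'a, h.l'a']; simp
  have hμΩ : μ ᵥ* Ω = 0 := by rw [h.Ωe, vecMul_add, vecMul_vmv, vecMul_vmv, h.μa, h.μa']; simp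
  have hΩa : Ω *ᵥ a = 0 := by rw [← h.hv, mulVec_mulVec, hΩ, zero_mulVec]
  have hΩa' : Ω *ᵥ a' = 0 := by rw [← h.hz, mulVec_mulVec, hΩ, zero_mulVec]
  -- the involutions
  set n1 : Matrix ι ι F := vecMulVec v β + vecMulVec a l' with hn1
  set n2 : Matrix ι ι F := vecMulVec z α + vecMulVec a' l with hn2
  have h11 : n1 * n1 = 0 := by
    rw [hn1, add_mul, mul_add, mul_add, vmv_vmv, vmv_vmv, vmv_vmv, vmv_vmv, h.βv, h.βa, h.lv', h.l'a]; simp
  have h22 : n2 * n2 = 0 := by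
    rw [hn2, add_mul, mul_add, mul_add, vmv_vmv, vmv_vmv, vmv_vmv, vmv_vmv, h.αz, h.αa', h.lz, h.la']; simp
  have h12 : n1 * n2 = vecMulVec v α + vecMulVec a l := by
    rw [hn1, hn2, add_mul, mul_add, mul_add, vmv_vmv, vmv_vmv, vmv_vmv, vmv_vmv, h.βz, h.βa', h.lz', h.l'a']; simp
  have h21 : n2 * n1 = vecMulVec z β + vecMulVec a' l' := by
    rw [hn1, hn2, add_mul, mul_add, mul_add, vmv_vmv, vmv_vmv, vmv_vmv, vmv_vmv, h.αv, h.αa, h.lv, h.la]; simp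
  have h121 : n1 * n2 * n1 = n1 := by
    rw [h12, hn1, add_mul, mul_add, mul_add, vmv_vmv, vmv_vmv, vmv_vmv, vmv_vmv, h.αv, h.αa, h.lv, h.la]; simp
  have h212 : n2 * n1 * n2 = n2 := by
    rw [h21, hn2, add_mul, mul_add, mul_add, vmv_vmv, vmv_vmv, vmv_vmv, vmv_vmv, h.βz, h.βa', h.lz', h.l'a']; simp
  obtain ⟨g1, hg1⟩ : ∃ g : Matrix.SpecialLinearGroup ι F, (g : Matrix ι ι F) = 1 + n1 := by
    apply hF.exists_sl (B := 1 + n1)
    have e : (1 + n1) * (1 + n1) = 1 + (n1 + n1) + n1 * n1 := by noncomm_ring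
    rw [e, hF.madd_self, h11, add_zero, add_zero]
  obtain ⟨g2, hg2⟩ : ∃ g : Matrix.SpecialLinearGroup ι F, (g : Matrix ι ι F) = 1 + n2 := by
    apply hF.exists_sl (B := 1 + n2)
    have e : (1 + n2) * (1 + n2) = 1 + (n2 + n2) + n2 * n2 := by noncomm_ring
    rw [e, hF.madd_self, h22, add_zero, add_zero]
  have hg11 : g1 * g1 = 1 := by
    apply Subtype.ext
    rw [Matrix.SpecialLinearGroup.coe_mul, Matrix.SpecialLinearGroup.coe_one, hg1]
    have e : (1 + n1) * (1 + n1) = 1 + (n1 + n1) + n1 * n1 := by noncomm_ring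
    rw [e, hF.madd_self, h11, add_zero, add_zero]
  have hg22 : g2 * g2 = 1 := by
    apply Subtype.ext
    rw [Matrix.SpecialLinearGroup.coe_mul, Matrix.SpecialLinearGroup.coe_one, hg2]
    have e : (1 + n2) * (1 + n2) = 1 + (n2 + n2) + n2 * n2 := by noncomm_ring
    rw [e, hF.madd_self, h22, add_zero, add_zero]
  have hbr : g1 * g2 * g1 = g2 * g1 * g2 := by
    apply Subtype.ext
    rw [Matrix.SpecialLinearGroup.coe_mul, Matrix.SpecialLinearGroup.coe_mul, Matrix.SpecialLinearGroup.coe_mul,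
      Matrix.SpecialLinearGroup.coe_mul, hg1, hg2]
    have e1 : (1 + n1) * (1 + n2) * (1 + n1) = 1 + (n1 + n1) + n2 + n1 * n1 + n1 * n2 + n2 * n1 + n1 * n2 * n1 := by
      noncomm_ring
    have e2 : (1 + n2) * (1 + n1) * (1 + n2) = 1 + (n2 + n2) + n1 + n2 * n2 + n1 * n2 + n2 * n1 + n2 * n1 * n2 := by
      noncomm_ring
    rw [e1, e2, h121, h212, h11, h22, hF.madd_self, hF.madd_self]
    abel
  have hg1w : g1 * w = w * g1 := by
    rw [comm_iff hw, hg1, hn1, add_mul, mul_add, one_mul, mul_one, add_mul, mul_add, vmv_mul, vmv_mul, mul_vmv, mul_vmv,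
      hβΩ, hlΩ', h.hv, hΩa]
    simp
  have hg2w : g2 * w = w * g2 := by
    rw [comm_iff hw, hg2, hn2, add_mul, mul_add, one_mul, mul_one, add_mul, mul_add, vmv_mul, vmv_mul, mul_vmv, mul_vmv,
      hαΩ, hlΩ, h.hz, hΩa']
    simp
  have hgv1 : ∀ x, (g1 : Matrix ι ι F) *ᵥ x = x + ((β ⬝ᵥ x) • v + (l' ⬝ᵥ x) • a) := by
    intro x
    rw [hg1, add_mulVec, one_mulVec, hn1, add_mulVec, vmv_mulVec, vmv_mulVec]
  have hgv2 : ∀ x, (g2 : Matrix ι ι F) *ᵥ x = x + ((α ⬝ᵥ x) • z + (l ⬝ᵥ x) • a') := by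
    intro x
    rw [hg2, add_mulVec, one_mulVec, hn2, add_mulVec, vmv_mulVec, vmv_mulVec]
  have hgf1 : ∀ x, x ᵥ* (g1 : Matrix ι ι F) = x + ((x ⬝ᵥ v) • β + (x ⬝ᵥ a) • l') := by
    intro x
    rw [hg1, vecMul_add, vecMul_one, hn1, vecMul_add, vecMul_vmv, vecMul_vmv]
  have hgf2 : ∀ x, x ᵥ* (g2 : Matrix ι ι F) = x + ((x ⬝ᵥ z) • α + (x ⬝ᵥ a') • l) := by
    intro x
    rw [hg2, vecMul_add, vecMul_one, hn2, vecMul_add, vecMul_vmv, vecMul_vmv]
  -- the element of order three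
  obtain ⟨d, hd⟩ : ∃ d, d = g1 * g2 := ⟨_, rfl⟩
  have hd3 : d ^ 3 = 1 := by rw [hd]; exact pow_three_of_braid hg11 hg22 hbr
  have hdo : Odd (orderOf d) := Odd.of_dvd_nat (by decide) (orderOf_dvd_of_pow_eq_one hd3)
  have hdw : d * w = w * d := by
    rw [hd]
    calc g1 * g2 * w = g1 * (g2 * w) := by group
      _ = g1 * w * g2 := by rw [hg2w]; group
      _ = w * g1 * g2 := by rw [hg1w]
      _ = w * (g1 * g2) := by group
  have hdv : ∀ x, (d : Matrix ι ι F) *ᵥ x = (g1 : Matrix ι ι F) *ᵥ ((g2 : Matrix ι ι F) *ᵥ x) := by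
    intro x; rw [hd, sl_mul_mulVec]
  have hdi : d⁻¹ = g2 * g1 := by
    rw [hd, _root_.mul_inv_rev, inv_eq_of_mul_eq_one_right hg11, inv_eq_of_mul_eq_one_right hg22]
  have hdf : ∀ x, x ᵥ* ((d⁻¹ : Matrix.SpecialLinearGroup ι F) : Matrix ι ι F) =
      (x ᵥ* (g2 : Matrix ι ι F)) ᵥ* (g1 : Matrix ι ι F) := by
    intro x; rw [hdi, Matrix.SpecialLinearGroup.coe_mul, vecMul_vecMul]
  -- commutators with `d`
  have key : ∀ t : Matrix.SpecialLinearGroup ι F, t * w = w * t → d * t * d⁻¹ * t⁻¹ ∈ C := by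
    intro t ht
    have h1 : d ∈ C := Subgroup.subset_closure ⟨hdw, hdo⟩
    have h2 : t * d⁻¹ * t⁻¹ ∈ C := by
      apply Subgroup.subset_closure
      refine ⟨?_, ?_⟩
      · have e1 : d⁻¹ * w = w * d⁻¹ := by
          calc d⁻¹ * w = d⁻¹ * (w * d) * d⁻¹ := by group
            _ = d⁻¹ * (d * w) * d⁻¹ := by rw [hdw]
            _ = w * d⁻¹ := by group
        have e2 : t⁻¹ * w = w * t⁻¹ := by
          calc t⁻¹ * w = t⁻¹ * (w * t) * t⁻¹ := by group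
            _ = t⁻¹ * (t * w) * t⁻¹ := by rw [ht]
            _ = w * t⁻¹ := by group
        calc t * d⁻¹ * t⁻¹ * w = t * d⁻¹ * (t⁻¹ * w) := by group
          _ = t * (d⁻¹ * w) * t⁻¹ := by rw [e2]; group
          _ = (t * w) * d⁻¹ * t⁻¹ := by rw [e1]; group
          _ = w * (t * d⁻¹ * t⁻¹) := by rw [ht]; group
      · have e3 : orderOf (t * d⁻¹ * t⁻¹) = orderOf d⁻¹ :=
          orderOf_injective (MulAut.conj t).toMonoidHom (MulAut.conj t).injective d⁻¹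
        rw [e3, orderOf_inv]; exact hdo
    have e : d * t * d⁻¹ * t⁻¹ = d * (t * d⁻¹ * t⁻¹) := by group
    rw [e]; exact C.mul_mem h1 h2
  have trC : ∀ (x y x' y' : ι → F) (h1 : y ⬝ᵥ x = 0), Ω *ᵥ x = 0 → y ᵥ* Ω = 0 →
      (d : Matrix ι ι F) *ᵥ x = x' → y ᵥ* ((d⁻¹ : Matrix.SpecialLinearGroup ι F) : Matrix ι ι F) = y' →
      ∀ h2 : y' ⬝ᵥ x' = 0, tr x' y' h2 * tr x y h1 ∈ C := by
    intro x y x' y' h1 hx hy hx' hy' h2
    have h3 := key (tr x y h1) (tr_comm hw h1 hx hy)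
    rw [conj_tr, hF.tr_inv, tr_congr _ h2 hx' hy'] at h3
    exact h3
  -- `a ⊗ μ`, `a' ⊗ μ`
  have hda : (d : Matrix ι ι F) *ᵥ a = a' := by
    rw [hdv, hgv2, h.αa, h.la, zero_smul, zero_add, one_smul, hgv1, dotProduct_add, dotProduct_add, h.βa, h.βa', h.l'a,
      h.l'a', add_zero, zero_smul, zero_add, zero_add, one_smul]
    have e : a + a' + a = a' + (a + a) := by abel
    rw [e, hF.vadd_self, add_zero]
  have hda' : (d : Matrix ι ι F) *ᵥ a' = a' + a := by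
    rw [hdv, hgv2, h.αa', h.la', zero_smul, zero_smul, add_zero, add_zero, hgv1, h.βa', h.l'a', zero_smul, zero_add,
      one_smul]
  have hdμ : μ ᵥ* ((d⁻¹ : Matrix.SpecialLinearGroup ι F) : Matrix ι ι F) = μ := by
    rw [hdf, hgf2, h.μz, h.μa', hgf1]
    simp [h.μv, h.μa]
  have hdm : (d : Matrix ι ι F) *ᵥ m = m := by
    rw [hdv, hgv2, h.αm, h.lm, hgv1]
    simp [h.βm, h.l'm]
  have hdα : α ᵥ* ((d⁻¹ : Matrix.SpecialLinearGroup ι F) : Matrix ι ι F) = α + β := by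
    rw [hdf, hgf2, h.αz, h.αa', hgf1]
    simp [h.αv, h.αa]
  have hdβ : β ᵥ* ((d⁻¹ : Matrix.SpecialLinearGroup ι F) : Matrix ι ι F) = α := by
    rw [hdf, hgf2, h.βz, h.βa', one_smul, zero_smul, add_zero, hgf1, add_dotProduct, add_dotProduct, h.βv, h.αv, h.βa,
      h.αa, zero_add, one_smul, add_zero, zero_smul, add_zero]
    have e : β + α + β = α + (β + β) := by abel
    rw [e, hF.vadd_self, add_zero]
  have hμa2 : μ ⬝ᵥ (a' + a) = 0 := by rw [dotProduct_add, h.μa', h.μa, add_zero]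
  have c1 : tr a' μ h.μa' * tr a μ h.μa ∈ C := trC a μ a' μ h.μa hΩa hμΩ hda hdμ h.μa'
  have c2 : tr (a' + a) μ hμa2 * tr a' μ h.μa' ∈ C := trC a' μ (a' + a) μ h.μa' hΩa' hμΩ hda' hdμ hμa2
  have c3 : tr a μ h.μa ∈ C := by
    rw [tr_mul_same_axis] at c2
    have e : a' + a + a' = a := by
      have : a' + a + a' = a + (a' + a') := by abel
      rw [this, hF.vadd_self, add_zero]
    rwa [tr_congr _ h.μa e rfl] at c2
  have c4 : tr a' μ h.μa' ∈ C := by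
    have := C.mul_mem c1 (C.inv_mem c3)
    rwa [mul_inv_cancel_right] at this
  -- `m ⊗ α`, `m ⊗ β`
  have hαβm : (α + β) ⬝ᵥ m = 0 := by rw [add_dotProduct, h.αm, h.βm, add_zero]
  have c5 : tr m (α + β) hαβm * tr m α h.αm ∈ C := trC m α m (α + β) h.αm h.hm hαΩ hdm hdα hαβm
  have c6 : tr m α h.αm * tr m β h.βm ∈ C := trC m β m α h.βm h.hm hβΩ hdm hdβ h.αm
  have c7 : tr m β h.βm ∈ C := by
    rw [tr_mul_same_center] at c5
    have e : α + β + α = β := by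
      have : α + β + α = β + (α + α) := by abel
      rw [this, hF.vadd_self, add_zero]
    rwa [tr_congr _ h.βm rfl e] at c5
  have c8 : tr m α h.αm ∈ C := by
    have := C.mul_mem c6 (C.inv_mem c7)
    rwa [mul_inv_cancel_right] at this
  -- commutators
  have hcom : ∀ (b φ : ι → F) (hb : μ ⬝ᵥ b = 0) (hφ : φ ⬝ᵥ m = 0) (hφb : φ ⬝ᵥ b = 0), tr b μ hb ∈ C → tr m φ hφ ∈ C →
      tr b φ hφb ∈ C := by
    intro b φ hb hφ hφb h1 h2
    have h3 := C.mul_mem (C.mul_mem (C.mul_mem h1 h2) (C.inv_mem h1)) (C.inv_mem h2)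
    rw [conj_tr] at h3
    have e1 : (tr b μ hb : Matrix ι ι F) *ᵥ m = m + b := by rw [tr_mulVec, h.μm, one_smul]
    have e2 : φ ᵥ* (((tr b μ hb)⁻¹ : Matrix.SpecialLinearGroup ι F) : Matrix ι ι F) = φ := by
      rw [hF.tr_inv, coe_tr, vecMul_add, vecMul_one, vecMul_vmv, hφb, zero_smul, add_zero]
    have e3 : φ ⬝ᵥ (m + b) = 0 := by rw [dotProduct_add, hφ, hφb, add_zero]
    rw [tr_congr _ e3 e1 e2, hF.tr_inv, tr_mul_same_axis] at h3
    have e4 : m + b + m = b := by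
      have : m + b + m = b + (m + m) := by abel
      rw [this, hF.vadd_self, add_zero]
    rwa [tr_congr _ hφb e4 rfl] at h3
  have c9 := hcom a α h.μa h.αm h.αa c3 c8
  have c10 := hcom a' β h.μa' h.βm h.βa' c4 c7
  have hfin : w = tr a α h.αa * tr a' β h.βa' := by
    apply Subtype.ext
    have e : ∀ P Q : Matrix ι ι F, (1 + P) * (1 + Q) = 1 + (P + Q) + P * Q := by
      intro P Q; noncomm_ring
    rw [Matrix.SpecialLinearGroup.coe_mul, coe_tr, coe_tr, hw, e, vmv_vmv, h.αa', zero_smul, add_zero]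
    conv_lhs => rw [h.Ωe]
  rw [hfin]
  exact C.mul_mem c9 c10

end Cfsg.Agent.OddHalf.D4.SLTwo

end

-- merged: Cfsg.Agent.OddHalf.D4.SLTwo.Model
section

/-!
# ODD, D4, `K = L_n(2)`: automorphisms and Sylow 2-subgroups of `SL_n(F_2)`
-/

set_option autoImplicit false
set_option linter.unusedSectionVars false

namespace Cfsg.Agent.OddHalf.D4.SLTwo

open Matrix Cfsg.Agent.ClassicalGeometry.AutPSL.Root Cfsg.Agent.ClassicalGeometry.AutPSL.Auto
  Cfsg.Agent.ClassicalGeometry.AutPSL.SylowU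

variable {F : Type*} [Field F] {n : ℕ}

/-- abbreviation -/
abbrev SLn (n : ℕ) (F : Type*) [Field F] := Matrix.SpecialLinearGroup (Fin n) F

theorem two_of_card [Fintype F] (h : Fintype.card F = 2) : Two F := by
  classical
  intro c
  by_contra hcon
  push Not at hcon
  have h1 : ({0, 1, c} : Finset F).card = 3 := by
    rw [Finset.card_eq_three]
    exact ⟨0, 1, c, zero_ne_one, hcon.1.symm, hcon.2.symm, rfl⟩
  have h2 := Finset.card_le_univ ({0, 1, c} : Finset F)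
  rw [h1, h] at h2
  omega

theorem eq_one_of_center (hF : Two F) (hn : 1 ≤ n) {z : SLn n F} (hz : z ∈ Subgroup.center (SLn n F)) : z = 1 := by
  obtain ⟨r, hr, hz'⟩ := Matrix.SpecialLinearGroup.mem_center_iff.mp hz
  have h1 : r = 1 := by
    rcases hF r with h | h
    · rw [h, Fintype.card_fin, zero_pow (by omega)] at hr
      exact absurd hr zero_ne_one
    · exact h
  apply Subtype.ext
  rw [← hz', h1, map_one, Matrix.SpecialLinearGroup.coe_one]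

theorem pr_injective (hF : Two F) (hn : 1 ≤ n) : Function.Injective (pr : SLn n F →* _) := by
  rw [injective_iff_map_eq_one]
  intro x hx
  rw [pr_eq_one_iff] at hx
  exact eq_one_of_center hF hn hx

/-- `SL_n(F_2) ≃ PSL_n(F_2)`. -/
noncomputable def slEquiv (hF : Two F) (hn : 1 ≤ n) : SLn n F ≃* Matrix.ProjectiveSpecialLinearGroup (Fin n) F :=
  MulEquiv.ofBijective pr ⟨pr_injective hF hn, pr_surjective⟩

theorem slEquiv_apply (hF : Two F) (hn : 1 ≤ n) (x : SLn n F) : slEquiv hF hn x = pr x := rfl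

theorem fld_eq_one (hF : Two F) (σ : F ≃+* F) : (fld σ : MulAut (SLn n F)) = 1 := by
  apply MulEquiv.ext
  intro g
  apply Subtype.ext
  ext i j
  rw [coe_fld_apply]
  show σ ((g : Matrix (Fin n) (Fin n) F) i j) = (g : Matrix (Fin n) (Fin n) F) i j
  rcases hF ((g : Matrix (Fin n) (Fin n) F) i j) with h | h
  · rw [h, map_zero]
  · rw [h, map_one]

/-- Automorphisms of `SL_n(F_2)`. -/
theorem aut_cases [Fintype F] (h2 : Fintype.card F = 2) (hn : 3 ≤ n) (α : MulAut (SLn n F)) :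
    ∃ A : GL (Fin n) F, α = cj A ∨ α = cj A * itr := by
  have hF := two_of_card h2
  have hn1 : 1 ≤ n := by omega
  have : Fact (Nat.Prime 2) := ⟨Nat.prime_two⟩
  have : CharP F 2 := by
    have h3 : (2 : F) = 0 := by rw [← one_add_one_eq_two]; exact hF.one_add_one
    exact CharTwo.of_one_ne_zero_of_two_eq_zero one_ne_zero h3
  let e := slEquiv (n := n) hF hn1
  let β : MulAut (Matrix.ProjectiveSpecialLinearGroup (Fin n) F) := MulAut.congr e α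
  have hβ : ∀ x : SLn n F, β (pr x) = pr (α x) := by
    intro x
    show e (α (e.symm (pr x))) = pr (α x)
    have : e.symm (pr x) = x := e.symm_apply_apply x
    rw [this]; rfl
  have key : ∀ γ : MulAut (SLn n F), β = lift γ → α = γ := by
    intro γ hγ
    apply MulEquiv.ext
    intro x
    apply pr_injective hF hn1
    rw [← hβ, hγ, lift_pr]
  rcases Cfsg.Agent.ClassicalGeometry.AutPSL.Main.surj_three 2 hn β with ⟨A, σ, h⟩ | ⟨A, σ, h⟩
  · refine ⟨A, Or.inl ?_⟩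
    rw [fld_eq_one hF, mul_one] at h
    exact key _ h
  · refine ⟨A, Or.inr ?_⟩
    rw [fld_eq_one hF, mul_one] at h
    exact key _ h

/-- `cj A` is inner over the field of two elements. -/
theorem exists_conj (hF : Two F) (A : GL (Fin n) F) : ∃ g : SLn n F, (cj A : MulAut (SLn n F)) = MulAut.conj g := by
  have h1 : (A : Matrix (Fin n) (Fin n) F) * ((A⁻¹ : GL (Fin n) F) : Matrix (Fin n) (Fin n) F) = 1 := by
    rw [← Units.val_mul, mul_inv_cancel, Units.val_one]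
  obtain ⟨g, hg⟩ := hF.exists_sl h1
  refine ⟨g, ?_⟩
  apply MulEquiv.ext
  intro x
  apply Subtype.ext
  rw [coe_cj, MulAut.conj_apply, Matrix.SpecialLinearGroup.coe_mul, Matrix.SpecialLinearGroup.coe_mul, hg]
  congr 1
  have h2 := inv_mul_val g
  rw [hg] at h2
  have h3 : ((g⁻¹ : SLn n F) : Matrix (Fin n) (Fin n) F) * ((A : Matrix (Fin n) (Fin n) F) *
      ((A⁻¹ : GL (Fin n) F) : Matrix (Fin n) (Fin n) F)) = ((A⁻¹ : GL (Fin n) F) : Matrix (Fin n) (Fin n) F) := by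
    rw [← mul_assoc, h2, one_mul]
  rw [← h3, h1, mul_one]

/-- The contragredient of a matrix. -/
def ctr (A : GL (Fin n) F) : GL (Fin n) F :=
  ⟨((A⁻¹ : GL (Fin n) F) : Matrix (Fin n) (Fin n) F)ᵀ, (A : Matrix (Fin n) (Fin n) F)ᵀ, by
    rw [← transpose_mul, ← Units.val_mul, mul_inv_cancel, Units.val_one, transpose_one], by
    rw [← transpose_mul, ← Units.val_mul, inv_mul_cancel, Units.val_one, transpose_one]⟩

theorem itr_mul_cj (A : GL (Fin n) F) : (itr * cj A : MulAut (SLn n F)) = cj (ctr A) * itr := by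
  apply MulEquiv.ext
  intro g
  apply Subtype.ext
  rw [MulAut.mul_apply, MulAut.mul_apply, coe_cj, coe_itr, coe_itr, ← map_inv, coe_cj,
    transpose_mul, transpose_mul, ← mul_assoc]
  rfl

/-- The product of two graph automorphisms is inner. -/
theorem out_mul_out (A B : GL (Fin n) F) :
    (cj A * itr) * (cj B * itr) = (cj (A * ctr B) : MulAut (SLn n F)) := by
  calc (cj A * itr) * (cj B * itr) = cj A * (itr * cj B) * itr := by simp only [mul_assoc]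
    _ = cj A * (cj (ctr B) * itr) * itr := by rw [itr_mul_cj]
    _ = (cj A * cj (ctr B)) * (itr * itr) := by simp only [mul_assoc]
    _ = cj (A * ctr B) := by rw [itr_mul_itr, mul_one, map_mul]

/-! ### Sylow 2-subgroups -/

/-- The upper unitriangular group is a Sylow 2-subgroup of `SL_n(F_2)`. -/
theorem exists_sylow_sl [Fintype F] (h2 : Fintype.card F = 2) (hn : 1 ≤ n) :
    ∃ S : Sylow 2 (SLn n F), (S : Subgroup (SLn n F)) = upper n F := by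
  have hF := two_of_card h2
  have : Fact (Nat.Prime 2) := ⟨Nat.prime_two⟩
  have : CharP F 2 := by
    have h3 : (2 : F) = 0 := by rw [← one_add_one_eq_two]; exact hF.one_add_one
    exact CharTwo.of_one_ne_zero_of_two_eq_zero one_ne_zero h3
  obtain ⟨P, hP⟩ := exists_sylow (F := F) n 2
  have hcard : Nat.card (upper n F) = Nat.card P := by
    have h3 : Nat.card ((upper n F).map pr) = Nat.card (upper n F) := Nat.card_image_of_injOn pr_injOn_upper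
    rw [← h3, ← hP]
  obtain ⟨k, hk⟩ := IsPGroup.iff_card.mp P.2
  have hup : IsPGroup 2 ↥(upper n F) := IsPGroup.of_card (n := k) (by rw [hcard]; exact hk)
  obtain ⟨S, hS⟩ := hup.exists_le_sylow
  refine ⟨S, (Subgroup.eq_of_le_of_card_ge hS ?_).symm⟩
  rw [hcard]
  have h4 : Nat.card S = 2 ^ (Nat.card (SLn n F)).factorization 2 := Sylow.card_eq_multiplicity S
  have h5 : Nat.card P = 2 ^ (Nat.card (Matrix.ProjectiveSpecialLinearGroup (Fin n) F)).factorization 2 :=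
    Sylow.card_eq_multiplicity P
  have h6 : Nat.card (SLn n F) = Nat.card (Matrix.ProjectiveSpecialLinearGroup (Fin n) F) :=
    Nat.card_congr (slEquiv hF hn).toEquiv
  change Nat.card S ≤ Nat.card P
  rw [h4, h5, h6]

/-- Transvections are central in a Sylow 2-subgroup. -/
theorem tr_central [Fintype F] (h2 : Fintype.card F = 2) (hn : 2 ≤ n) {v f : Fin n → F} (hv : v ≠ 0) (hf : f ≠ 0)
    (h : f ⬝ᵥ v = 0) : ∃ S : Sylow 2 (SLn n F), ∀ s ∈ S, s * tr v f h = tr v f h * s := by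
  have hF := two_of_card h2
  obtain ⟨m, rfl⟩ : ∃ m, n = m + 2 := ⟨n - 2, by omega⟩
  have h0 : (0 : Fin (m + 2)) < Fin.last (m + 1) := Fin.last_pos
  obtain ⟨A, hA1, hA2⟩ := Cfsg.Agent.ClassicalGeometry.AutPSL.Frame.exists_gl hv hf h h0.ne
  obtain ⟨S, hS⟩ := exists_sylow_sl (n := m + 2) h2 (by omega)
  obtain ⟨g, hg⟩ := exists_conj hF A
  have h1 : tr v f h = cj A (Matrix.SpecialLinearGroup.transvection h0.ne 1) := by
    rw [transvection_eq_tr, cj_tr, tr_eq_iff, mulVec_smul, hA1, one_smul, ← hA2, vecMul_vecMul,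
      ← Units.val_mul, mul_inv_cancel, Units.val_one, vecMul_one]
  rw [hg] at h1
  refine ⟨g • S, fun s hs => ?_⟩
  have hs' : s ∈ ((g • S : Sylow 2 _) : Subgroup _) := hs
  rw [Sylow.coe_subgroup_smul, Subgroup.mem_pointwise_smul_iff_inv_smul_mem, hS] at hs'
  have h3 := central_transvection h0 (fun i => Fin.zero_le i) (fun i => Fin.le_last i) (1 : F) hs'
  have h4 : s = MulAut.conj g ((MulAut.conj g)⁻¹ • s) := ((MulAut.conj g).apply_symm_apply s).symm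
  rw [h1, h4, ← map_mul, ← map_mul, h3]

end Cfsg.Agent.OddHalf.D4.SLTwo

end

-- merged: Cfsg.Agent.OddHalf.D4.SLTwo.Main
section

/-!
# ODD, D4: `KP (SL_n(F_2))`, `n ≥ 5`
-/

set_option autoImplicit false
set_option linter.unusedSectionVars false

namespace Cfsg.Agent.OddHalf.D4.SLTwo

open Matrix Cfsg.Agent.ClassicalGeometry.AutPSL.Root Cfsg.Agent.ClassicalGeometry.AutPSL.Auto
  Cfsg.Agent.ClassicalGeometry.AutPSL.SylowU

variable {F : Type*} [Field F] {n : ℕ}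

theorem conj_inj (hF : Two F) (hn : 1 ≤ n) {g h : SLn n F} (e : MulAut.conj g = MulAut.conj h) : g = h := by
  have h1 : h⁻¹ * g ∈ Subgroup.center (SLn n F) := by
    rw [Subgroup.mem_center_iff]
    intro x
    have h2 := DFunLike.congr_fun e x
    rw [MulAut.conj_apply, MulAut.conj_apply] at h2
    calc x * (h⁻¹ * g) = h⁻¹ * (h * x * h⁻¹) * g := by group
      _ = h⁻¹ * (g * x * g⁻¹) * g := by rw [h2]
      _ = h⁻¹ * g * x := by group
  have h2 := eq_one_of_center hF hn h1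
  have h3 : g = h * (h⁻¹ * g) := by group
  rw [h3, h2, mul_one]

/-- Rank two at least: otherwise `w` is a transvection. -/
theorem r2_or [Fintype F] (h2 : Fintype.card F = 2) (hn : 2 ≤ n) {w : SLn n F} {Ω : Matrix (Fin n) (Fin n) F}
    (hw : (w : Matrix (Fin n) (Fin n) F) = 1 + Ω) (hΩ : Ω * Ω = 0) (hw1 : w ≠ 1)
    (hc : ∀ S : Sylow 2 (SLn n F), ∃ s ∈ S, s * w ≠ w * s) : R2 Ω := by
  by_contra hcon
  unfold R2 at hcon
  push Not at hcon
  obtain ⟨α, hα⟩ := hcon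
  obtain ⟨b, hb⟩ := exists_vmv' hα
  have hb0 : b ≠ 0 := by
    rintro rfl
    rw [zero_vecMulVec] at hb
    apply hw1
    apply Subtype.ext
    rw [hw, hb, add_zero, Matrix.SpecialLinearGroup.coe_one]
  have hα0 : α ≠ 0 := by
    rintro rfl
    rw [vecMulVec_zero] at hb
    apply hw1
    apply Subtype.ext
    rw [hw, hb, add_zero, Matrix.SpecialLinearGroup.coe_one]
  have h1 : α ⬝ᵥ b = 0 := by
    rw [hb, vmv_vmv] at hΩ
    by_contra h3
    obtain ⟨i, hi⟩ := Function.ne_iff.mp hb0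
    obtain ⟨j, hj⟩ := Function.ne_iff.mp hα0
    have h4 := congrFun (congrFun hΩ i) j
    rw [Matrix.smul_apply, vecMulVec_apply, smul_eq_mul] at h4
    rcases mul_eq_zero.mp h4 with h5 | h5
    · exact h3 h5
    · rcases mul_eq_zero.mp h5 with h6 | h6
      · exact hi h6
      · exact hj h6
  obtain ⟨S, hS⟩ := tr_central h2 hn hb0 hα0 h1
  obtain ⟨s, hs, hne⟩ := hc S
  apply hne
  have h3 : w = tr b α h1 := Subtype.ext (by rw [hw, hb, coe_tr])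
  rw [h3]
  exact hS s hs

/-- An element of the form `1 + a ⊗ φ`, different from `1`, of square one is central in a Sylow 2-subgroup. -/
theorem not_tr [Fintype F] (h2 : Fintype.card F = 2) (hn : 2 ≤ n) {y : SLn n F} {a φ : Fin n → F}
    (hy : (y : Matrix (Fin n) (Fin n) F) = 1 + vecMulVec a φ) (hyy : y * y = 1) (hy1 : y ≠ 1)
    (hc : ∀ S : Sylow 2 (SLn n F), ∃ s ∈ S, s * y ≠ y * s) : False := by
  have hF := two_of_card h2
  have h1 : (y : Matrix (Fin n) (Fin n) F) * y = 1 := by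
    rw [← Matrix.SpecialLinearGroup.coe_mul, hyy, Matrix.SpecialLinearGroup.coe_one]
  have hΩ : vecMulVec a φ * vecMulVec a φ = 0 := by
    rw [hy] at h1
    have e : (1 + vecMulVec a φ) * (1 + vecMulVec a φ) = 1 + (vecMulVec a φ + vecMulVec a φ) +
        vecMulVec a φ * vecMulVec a φ := by noncomm_ring
    rw [e, hF.madd_self, add_zero] at h1
    exact add_eq_left.mp h1
  obtain ⟨v, hv, hv'⟩ := r2_or h2 hn hy hΩ hy1 hc φ
  apply hv'
  rw [vmv_mulVec, hv, zero_smul]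

/-- The case of inner `δ`. -/
theorem inner_case [Fintype F] (h2 : Fintype.card F = 2) (hn : 5 ≤ n) {w : SLn n F} {Ω : Matrix (Fin n) (Fin n) F}
    {X : Subgroup (SLn n F)} (hw : (w : Matrix (Fin n) (Fin n) F) = 1 + Ω) (hΩ : Ω * Ω = 0) (hX : XH w X)
    (hR : R2 Ω) {x : SLn n F} (hx : Act w X x) (hxx : x * x = 1) (hx1 : x ≠ 1) (hxw : x ≠ w)
    (hcx : ∀ S : Sylow 2 (SLn n F), ∃ s ∈ S, s * x ≠ x * s)
    (hcxw : ∀ S : Sylow 2 (SLn n F), ∃ s ∈ S, s * (w * x) ≠ (w * x) * s) :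
    w ∈ X ∧ w ∈ Subgroup.closure {e : SLn n F | e * w = w * e ∧ Odd (orderOf e)} ∧
      ∀ c ∈ X, Odd (orderOf c) → c = 1 := by
  have hF := two_of_card h2
  have hww : w * w = 1 := by
    apply Subtype.ext
    rw [Matrix.SpecialLinearGroup.coe_mul, Matrix.SpecialLinearGroup.coe_one, hw]
    have e : (1 + Ω) * (1 + Ω) = 1 + (Ω + Ω) + Ω * Ω := by noncomm_ring
    rw [e, hF.madd_self, hΩ, add_zero, add_zero]
  have hΩ0 : Ω ≠ 0 := by
    rintro rfl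
    obtain ⟨v, _, hv⟩ := hR 0
    exact hv (zero_mulVec v)
  obtain ⟨u, hu, hxu⟩ := exists_fix hF hw hΩ0 hx.com hxx
  obtain ⟨ξ, hξ⟩ : ∃ ξ : Matrix (Fin n) (Fin n) F, (x : Matrix (Fin n) (Fin n) F) = 1 + ξ :=
    ⟨(x : Matrix (Fin n) (Fin n) F) - 1, by abel⟩
  have hE := inE_of_fix hF hξ (fix_of_fix hF hw hΩ hX hx hu hxu)
  have n1 : ∀ a φ, ξ ≠ vecMulVec a φ := by
    intro a φ h
    exact not_tr h2 (by omega) (by rw [hξ, h]) hxx hx1 hcx
  have n2 : ∀ a φ, ξ ≠ Ω + vecMulVec a φ := by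
    intro a φ h
    apply not_tr h2 (by omega) (y := w * x) (a := a) (φ := φ) _ _ _ hcxw
    · rw [Matrix.SpecialLinearGroup.coe_mul, hw, hξ]
      have e : (1 + Ω) * (1 + ξ) = 1 + (Ω + ξ) + Ω * ξ := by noncomm_ring
      have e' : 1 + (Ω + (Ω + vecMulVec a φ)) = 1 + ((Ω + Ω) + vecMulVec a φ) := by abel
      rw [e, hE.mul_left hΩ, add_zero, h, e', hF.madd_self, zero_add]
    · calc w * x * (w * x) = w * (x * w) * x := by group
        _ = w * (w * x) * x := by rw [hx.com]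
        _ = (w * w) * (x * x) := by group
        _ = 1 := by rw [hww, hxx, one_mul]
    · intro h1
      apply hxw
      calc x = w * w * x := by rw [hww, one_mul]
        _ = w * (w * x) := by group
        _ = w := by rw [h1, mul_one]
  obtain ⟨hwX, v, z, α, β, he, αv, αz, βv, βz⟩ := main hF hw hΩ hX hR hx hξ hE n1 n2
  obtain ⟨a, a', m, l, l', μ, hfrm⟩ := exists_frm hF (by simpa using hn) hΩ hR he αv αz βv βz
  refine ⟨hwX, mem_odd hF hw hΩ hfrm, fun c hc hodd => ?_⟩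
  have hμΩ : μ ᵥ* Ω = 0 := by rw [hfrm.Ωe, vecMul_add, vecMul_vmv, vecMul_vmv, hfrm.μa, hfrm.μa']; simp
  exact no_odd hF hw hΩ hX hfrm.hm hμΩ hfrm.μm hu hc hodd

/-- The case of outer `δ` is impossible. -/
theorem outer_case (hF : Two F) (hn : 5 ≤ n) {w : SLn n F} {Ω : Matrix (Fin n) (Fin n) F}
    {X : Subgroup (SLn n F)} (hw : (w : Matrix (Fin n) (Fin n) F) = 1 + Ω) (hΩ : Ω * Ω = 0) (hX : XH w X)
    (hR : R2 Ω) {A B : Matrix (Fin n) (Fin n) F} (g : Gr w Ω X A B) : False := by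
  by_cases h3 : R3 Ω
  · exact no_graph_two hF hw hΩ hX hR h3 g
  · unfold R3 at h3
    push Not at h3
    obtain ⟨α, β, hαβ⟩ := h3
    obtain ⟨v1, hv1, hv1'⟩ := hR α
    obtain ⟨v2, hv2, hv2'⟩ := hR β
    have h1 : β ⬝ᵥ v1 = 1 := by
      rcases hF (β ⬝ᵥ v1) with h | h
      · exact absurd (hαβ v1 hv1 h) hv1'
      · exact h
    have h2 : α ⬝ᵥ v2 = 1 := by
      rcases hF (α ⬝ᵥ v2) with h | h
      · exact absurd (hαβ v2 h hv2) hv2'
      · exact h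
    have he : Ω = vecMulVec (Ω *ᵥ v2) α + vecMulVec (Ω *ᵥ v1) β := by
      apply ext_mulVec
      intro u
      have h4 := hαβ (u - (α ⬝ᵥ u) • v2 - (β ⬝ᵥ u) • v1) (by
        rw [dotProduct_sub, dotProduct_sub, dotProduct_smul, dotProduct_smul, h2, hv1]; simp) (by
        rw [dotProduct_sub, dotProduct_sub, dotProduct_smul, dotProduct_smul, h1, hv2]; simp)
      rw [mulVec_sub, mulVec_sub, mulVec_smul, mulVec_smul, sub_sub, sub_eq_zero] at h4
      rw [add_mulVec, vmv_mulVec, vmv_mulVec]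
      exact h4
    obtain ⟨m, hm1, hm2, hm⟩ := exists_out (by simpa using hn) α β (Ω *ᵥ v2) (Ω *ᵥ v1)
    obtain ⟨μ, hμ1, hμ2, hμ⟩ := exists_sep hm
    have hΩm : Ω *ᵥ m = 0 := hαβ m hm1 hm2
    have hμΩ : μ ᵥ* Ω = 0 := by
      rw [he, vecMul_add, vecMul_vmv, vecMul_vmv, hμ1, hμ2]; simp
    exact no_graph_one hF hw hΩ hX hΩm hμΩ (hF.ne_zero hμ) hv1' g

/-- **`KP (SL_n(F_2))`**, `n ≥ 5`. -/
theorem kp [Fintype F] (h2 : Fintype.card F = 2) (hn : 5 ≤ n) : KP (SLn n F) := by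
  intro α β D N hC
  have hF := two_of_card h2
  have hn1 : 1 ≤ n := by omega
  -- an inner element of the four-group
  obtain ⟨w, δ, hγ, hδ, hγδ, hγ1, hδ1, hne, hcom, hδδ, hγγ⟩ : ∃ (w : SLn n F) (δ : MulAut (SLn n F)),
      (MulAut.conj w = α ∨ MulAut.conj w = β ∨ MulAut.conj w = α * β) ∧ (δ = α ∨ δ = β ∨ δ = α * β) ∧
      (MulAut.conj w * δ = α ∨ MulAut.conj w * δ = β ∨ MulAut.conj w * δ = α * β) ∧ MulAut.conj w ≠ 1 ∧ δ ≠ 1 ∧
      δ ≠ MulAut.conj w ∧ δ * MulAut.conj w = MulAut.conj w * δ ∧ δ * δ = 1 ∧ MulAut.conj w * MulAut.conj w = 1 := by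
    have hab1 : α * β ≠ 1 := by
      intro h
      apply hC.ne
      have : β = α * (α * β) := by rw [← mul_assoc, hC.aa, one_mul]
      rw [this, h, mul_one]
    have haba : α * (α * β) = β := by rw [← mul_assoc, hC.aa, one_mul]
    have habb : β * α = α * β := hC.ab.symm
    have h3 : α * β * α = β := by rw [mul_assoc, habb, haba]
    have h4 : α * β * (α * β) = 1 := by
      rw [← mul_assoc, h3, hC.bb]
    have h5 : α ≠ α * β := by
      intro h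
      apply hC.b1
      have : α * β = α * 1 := by rw [mul_one]; exact h.symm
      exact mul_left_cancel this
    obtain ⟨A, hA | hA⟩ := aut_cases h2 (by omega) α
    · obtain ⟨w, hw⟩ := exists_conj hF A
      rw [hw] at hA
      refine ⟨w, β, Or.inl hA.symm, Or.inr (Or.inl rfl), ?_, ?_, hC.b1, ?_, ?_, hC.bb, ?_⟩
      · rw [← hA]; exact Or.inr (Or.inr rfl)
      · rw [← hA]; exact hC.a1
      · rw [← hA]; exact hC.ne.symm
      · rw [← hA]; exact hC.ab.symm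
      · rw [← hA]; exact hC.aa
    · obtain ⟨B, hB | hB⟩ := aut_cases h2 (by omega) β
      · obtain ⟨w, hw⟩ := exists_conj hF B
        rw [hw] at hB
        refine ⟨w, α, Or.inr (Or.inl hB.symm), Or.inl rfl, ?_, ?_, hC.a1, ?_, ?_, hC.aa, ?_⟩
        · rw [← hB, habb]; exact Or.inr (Or.inr rfl)
        · rw [← hB]; exact hC.b1
        · rw [← hB]; exact hC.ne
        · rw [← hB]; exact hC.ab
        · rw [← hB]; exact hC.bb
      · have hAB : α * β = cj (A * ctr B) := by rw [hA, hB, out_mul_out]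
        obtain ⟨w, hw⟩ := exists_conj hF (A * ctr B)
        rw [hw] at hAB
        refine ⟨w, α, Or.inr (Or.inr hAB.symm), Or.inl rfl, ?_, ?_, hC.a1, ?_, ?_, hC.aa, ?_⟩
        · rw [← hAB, h3]; exact Or.inr (Or.inl rfl)
        · rw [← hAB]; exact hab1
        · rw [← hAB]; exact h5
        · rw [← hAB, h3, haba]
        · rw [← hAB]; exact h4
  -- `w`
  have hw1 : w ≠ 1 := by
    rintro rfl
    exact hγ1 (map_one _)
  have hww : w * w = 1 := by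
    apply conj_inj hF hn1
    rw [map_mul, map_one, hγγ]
  have hw2 : orderOf w = 2 := orderOf_eq_prime (by rw [pow_two]; exact hww) hw1
  obtain ⟨Ω, hw⟩ : ∃ Ω : Matrix (Fin n) (Fin n) F, (w : Matrix (Fin n) (Fin n) F) = 1 + Ω :=
    ⟨(w : Matrix (Fin n) (Fin n) F) - 1, by abel⟩
  have hΩ : Ω * Ω = 0 := by
    have h1 : (w : Matrix (Fin n) (Fin n) F) * w = 1 := by
      rw [← Matrix.SpecialLinearGroup.coe_mul, hww, Matrix.SpecialLinearGroup.coe_one]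
    rw [hw] at h1
    have e : (1 + Ω) * (1 + Ω) = 1 + (Ω + Ω) + Ω * Ω := by noncomm_ring
    rw [e, hF.madd_self, add_zero] at h1
    exact add_eq_left.mp h1
  have hwD : ∀ g, g * w = w * g → g ∈ D := by
    intro g hg
    apply hC.cen _ hγ
    rw [MulAut.conj_apply, ← hg]; group
  -- `X`
  let X : Subgroup (SLn n F) := N ⊓ Subgroup.centralizer {w}
  have hXmem : ∀ x, x ∈ X ↔ x ∈ N ∧ x * w = w * x := by
    intro x
    show x ∈ N ⊓ Subgroup.centralizer {w} ↔ _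
    rw [Subgroup.mem_inf, Subgroup.mem_centralizer_singleton_iff]
  have hX : XH w X := by
    refine ⟨fun x hx => ((hXmem x).mp hx).2, fun g hg x hx => ?_, fun v f h hv => ?_⟩
    · rw [hXmem] at hx ⊢
      refine ⟨hC.norm g (hwD g hg) x hx.1, ?_⟩
      have e1 : g⁻¹ * w = w * g⁻¹ := by
        calc g⁻¹ * w = g⁻¹ * (w * g) * g⁻¹ := by group
          _ = g⁻¹ * (g * w) * g⁻¹ := by rw [hg]
          _ = w * g⁻¹ := by group
      calc g * x * g⁻¹ * w = g * x * (g⁻¹ * w) := by group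
        _ = g * (x * w) * g⁻¹ := by rw [e1]; group
        _ = (g * w) * x * g⁻¹ := by rw [hx.2]; group
        _ = w * (g * x * g⁻¹) := by rw [hg]; group
    · by_contra hcon
      push Not at hcon
      obtain ⟨hv0, hf0⟩ := hcon
      have h1 := ((hXmem _).mp hv).1
      obtain ⟨S, hS⟩ := tr_central h2 (by omega) hv0 hf0 h
      obtain ⟨s, hs, hne'⟩ := hC.noCenN _ h1 (by
        apply orderOf_eq_prime
        · rw [pow_two]
          have := mul_inv_cancel (tr v f h)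
          rwa [hF.tr_inv] at this
        · intro h3
          obtain ⟨i, hi⟩ := Function.ne_iff.mp hv0
          obtain ⟨j, hj⟩ := Function.ne_iff.mp hf0
          have h4 := congrArg (fun y : SLn n F => (y : Matrix (Fin n) (Fin n) F)) h3
          simp only [coe_tr, Matrix.SpecialLinearGroup.coe_one] at h4
          have h5 := add_eq_left.mp h4
          have h6 := congrFun (congrFun h5 i) j
          rw [vecMulVec_apply] at h6
          rcases mul_eq_zero.mp h6 with h7 | h7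
          · exact hi h7
          · exact hj h7) S
      exact hne' (hS s hs)
  have hcw : ∀ y : SLn n F, (MulAut.conj y = α ∨ MulAut.conj y = β ∨ MulAut.conj y = α * β) →
      ∀ S : Sylow 2 (SLn n F), ∃ s ∈ S, s * y ≠ y * s := by
    intro y hy S
    obtain ⟨s, hs, hne'⟩ := hC.noCen _ hy S
    refine ⟨s, hs, fun h => hne' ?_⟩
    rw [MulAut.conj_apply, ← h]; group
  have hR : R2 Ω := r2_or h2 (by omega) hw hΩ hw1 (hcw w hγ)
  have hδw : δ w = w := by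
    apply conj_inj hF hn1
    apply MulEquiv.ext
    intro x
    have h1 := DFunLike.congr_fun hcom (δ.symm x)
    rw [MulAut.mul_apply, MulAut.mul_apply, MulAut.conj_apply, MulAut.conj_apply, map_mul, map_mul, map_inv] at h1
    have h2 : δ (δ.symm x) = x := δ.apply_symm_apply x
    rw [h2] at h1
    rw [MulAut.conj_apply, MulAut.conj_apply]
    exact h1
  obtain ⟨A, hA | hA⟩ := aut_cases h2 (by omega) δ
  · obtain ⟨x, hx⟩ := exists_conj hF A
    rw [hx] at hA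
    subst hA
    have hxx : x * x = 1 := by
      apply conj_inj hF hn1
      rw [map_mul, map_one, hδδ]
    have hx1 : x ≠ 1 := by
      rintro rfl
      exact hδ1 (map_one _)
    have hxw : x ≠ w := by
      rintro rfl
      exact hne rfl
    have hxcom : x * w = w * x := by
      apply conj_inj hF hn1
      rw [map_mul, map_mul, hcom]
    have hact : Act w X x := by
      refine ⟨hxcom, fun g hg => ?_⟩
      rw [hXmem]
      have h1 := hC.comm _ hδ g (hwD g hg)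
      rw [MulAut.conj_apply] at h1
      refine ⟨h1, ?_⟩
      have e1 : g⁻¹ * w = w * g⁻¹ := by
        calc g⁻¹ * w = g⁻¹ * (w * g) * g⁻¹ := by group
          _ = g⁻¹ * (g * w) * g⁻¹ := by rw [hg]
          _ = w * g⁻¹ := by group
      have e2 : x⁻¹ * w = w * x⁻¹ := by
        calc x⁻¹ * w = x⁻¹ * (w * x) * x⁻¹ := by group
          _ = x⁻¹ * (x * w) * x⁻¹ := by rw [hxcom]
          _ = w * x⁻¹ := by group
      calc x * g * x⁻¹ * g⁻¹ * w = x * g * x⁻¹ * (g⁻¹ * w) := by group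
        _ = x * g * (x⁻¹ * w) * g⁻¹ := by rw [e1]; group
        _ = x * (g * w) * x⁻¹ * g⁻¹ := by rw [e2]; group
        _ = (x * w) * g * x⁻¹ * g⁻¹ := by rw [hg]; group
        _ = w * (x * g * x⁻¹ * g⁻¹) := by rw [hxcom]; group
    obtain ⟨h3, h4, h5⟩ := inner_case h2 hn hw hΩ hX hR hact hxx hx1 hxw (hcw x hδ)
      (hcw (w * x) (by rw [map_mul]; exact hγδ))
    refine ⟨w, ((hXmem w).mp h3).1, hw2, h4, fun c hc hcw' hco => ?_⟩
    exact h5 c ((hXmem c).mpr ⟨hc, hcw'⟩) hco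
  · exfalso
    apply outer_case hF hn hw hΩ hX hR (A := (A : Matrix (Fin n) (Fin n) F))
      (B := ((A⁻¹ : GL (Fin n) F) : Matrix (Fin n) (Fin n) F))
    have hAB : (A : Matrix (Fin n) (Fin n) F) * ((A⁻¹ : GL (Fin n) F) : Matrix (Fin n) (Fin n) F) = 1 := by
      rw [← Units.val_mul, mul_inv_cancel, Units.val_one]
    have hBA : ((A⁻¹ : GL (Fin n) F) : Matrix (Fin n) (Fin n) F) * (A : Matrix (Fin n) (Fin n) F) = 1 := by
      rw [← Units.val_mul, inv_mul_cancel, Units.val_one]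
    refine ⟨hBA, hAB, ?_, ?_⟩
    · have h1 := congrArg (fun y : SLn n F => (y : Matrix (Fin n) (Fin n) F)) hδw
      simp only [hA, MulAut.mul_apply, coe_cj, coe_itr] at h1
      have hwi : w⁻¹ = w := inv_eq_of_mul_eq_one_right hww
      rw [hwi, hw, transpose_add, transpose_one] at h1
      have h3 : (A : Matrix (Fin n) (Fin n) F) * (1 + Ωᵀ) = (1 + Ω) * A := by
        calc (A : Matrix (Fin n) (Fin n) F) * (1 + Ωᵀ)
            = (A : Matrix (Fin n) (Fin n) F) * (1 + Ωᵀ) *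
              (((A⁻¹ : GL (Fin n) F) : Matrix (Fin n) (Fin n) F) * A) := by rw [hBA, mul_one]
          _ = ((A : Matrix (Fin n) (Fin n) F) * (1 + Ωᵀ) * ((A⁻¹ : GL (Fin n) F) : Matrix (Fin n) (Fin n) F)) * A := by
              simp only [mul_assoc]
          _ = (1 + Ω) * A := by rw [h1]
      rw [mul_add, mul_one, add_mul, one_mul] at h3
      exact add_left_cancel h3
    · intro v f h h' hv hf
      rw [hXmem]
      have htw := tr_comm hw h hv hf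
      have h1 := hC.comm _ hδ _ (hwD _ htw)
      have h'' : v ⬝ᵥ f = 0 := by rw [dotProduct_comm]; exact h
      rw [hA, out_tr hF A h h'', hF.tr_inv] at h1
      refine ⟨h1, ?_⟩
      have h3 : δ (tr v f h) = tr ((A : Matrix (Fin n) (Fin n) F) *ᵥ f)
          (v ᵥ* ((A⁻¹ : GL (Fin n) F) : Matrix (Fin n) (Fin n) F)) h' := by
        rw [hA, out_tr hF A h h'']
      have h4 : δ (tr v f h) * w = w * δ (tr v f h) := by
        have := congrArg δ htw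
        rwa [map_mul, map_mul, hδw] at this
      rw [← h3, mul_assoc, htw, ← mul_assoc, h4, mul_assoc]

/-- Automorphisms of odd order of `SL_n(F_2)` are inner. -/
theorem inner_of_odd [Fintype F] (h2 : Fintype.card F = 2) (hn : 3 ≤ n) (α : MulAut (SLn n F))
    (hα : Odd (orderOf α)) : ∃ k, α = MulAut.conj k := by
  have hF := two_of_card h2
  obtain ⟨A, hA | hA⟩ := aut_cases h2 hn α
  · obtain ⟨g, hg⟩ := exists_conj hF A
    exact ⟨g, hA.trans hg⟩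
  · -- `α` is a power of `α²`
    obtain ⟨k, hk⟩ := hα
    have h1 : (α * α) * (α * α) ^ k = α := by
      have h3 : (α * α) * (α * α) ^ k = α ^ (2 * k + 1) * α := by
        rw [← pow_two, ← pow_mul]
        rw [← pow_add, ← pow_succ]
        congr 1
        ring
      rw [h3, ← hk, pow_orderOf_eq_one, one_mul]
    have h3 : ∃ g : SLn n F, α * α = MulAut.conj g := by
      rw [hA, out_mul_out]
      exact exists_conj hF _
    obtain ⟨g, hg⟩ := h3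
    refine ⟨g * g ^ k, ?_⟩
    rw [map_mul, map_pow, ← hg, h1]

end Cfsg.Agent.OddHalf.D4.SLTwo

end
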